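import Cfsg.Agent.Omega.EK3.QG.Inst
import Cfsg.Agent.Omega.EK3.QG.Facts

/-!
# `Y_j = C_G(Z_l : l ≠ j)` over `Bg` alone (the parts of `EK3/QG/{Inst, Facts}.lean` of helper968 which use only `Bg`)

* `ZJ_eq`, `stab`, `fixB`, `T_norm_Z`, `syl` : `T_j = C_S(Z_l : l ≠ j)` is a Sylow 2-subgroup of `Y_j`; `frat`, `norm_ZJ`;
-/

set_option autoImplicit false
set_option linter.unusedSectionVars false

namespace Cfsg.Agent.Omega.EK3.QG.BgY

open Subgroup Cfsg Cfsg.Agent.ZN.ChoiceBase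
open Cfsg.Agent.ZN (jj zj bau zc zl o2)
open Cfsg.Agent.ZN.ChoiceSit (Syl exists_syl syl_conj isPGroup_o2 le_o2 le_normalizer_o2 o2_le_syl syl_not_dvd)
open Cfsg.Agent.Omega
open Cfsg.Agent.Omega.OM Cfsg.Agent.Omega.OM.Uni
open Cfsg.Agent.Omega.NO3S.EThree.Frame
open Cfsg.Agent.Omega.NO3S.EMany
open Cfsg.Agent.Omega.EK3.Q (YQ CQ NQ TY mem_YQ YQ_cent)
open Cfsg.Agent.Omega.EK3.QG.FrG (cj_YQ)
open scoped Pointwise

universe u

variable {G : Type u} [Group G] [Finite G] {S : Sylow 2 G} {P B ZJ : Subgroup G} {k : ℕ}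
  {L W Z C : Fin k → Subgroup G} {q : ℕ} (h : Bg S P B ZJ L W Z C q)
include h

theorem D_le (j : Fin k) : centralizer (ZJ : Set G) ≤ YQ Z j := fun _ hx =>
  mem_YQ.2 fun l _ z hz => (mem_centralizer_iff.1 hx z (h.fr.Z_le l hz)).symm

theorem B_le_D : B ≤ centralizer (ZJ : Set G) := h.eqB.le.trans inf_le_right

theorem B_le_T (j : Fin k) : B ≤ TY S Z j := le_inf h.BS ((B_le_D h).trans (D_le h j))

theorem ZJ_eq (j : Fin k) : ZJ = ⨆ l, Z l := by
  apply le_antisymm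
  · intro z hz
    obtain ⟨w, hw, c, hc, hcJ, rfl⟩ := h.fr.split_ZJ j hz
    have h1 : c ∈ ⨆ i : {i : Fin k // i ≠ j}, Z i := h.ZC_le j ⟨hcJ, hc⟩
    have h2 : (⨆ i : {i : Fin k // i ≠ j}, Z i) ≤ ⨆ l, Z l := iSup_le fun i => le_iSup Z i.1
    exact mul_mem (le_iSup Z j hw) (h2 h1)
  · exact iSup_le h.fr.Z_le

/-- `N_G(B) ∩ Y_j` fixes all indices -/
theorem fixB {n : G} (hn : n ∈ normalizer (B : Set G)) {j : Fin k} (hY : n ∈ YQ Z j) (l : Fin k) :
    cj n (W l) = W l ∧ cj n (Z l) = Z l := by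
  obtain ⟨σ, hσ⟩ := h.perm_W hn
  have h1 : ∀ l, l ≠ j → σ l = l := by
    intro l hl
    refine h.Z_inj ?_
    rw [← (hσ l).2]
    exact mem_normalizer_iff_cj.1 (centralizer_le_normalizer _ (YQ_cent hl hY))
  have h2 : σ l = l := by
    by_cases hl : l = j
    · subst hl
      by_contra hne
      exact hne (σ.injective (h1 _ hne))
    · exact h1 l hl
  have h3 := hσ l
  rwa [h2] at h3

omit h in
theorem T_two (S : Sylow 2 G) (Z : Fin k → Subgroup G) (j : Fin k) : IsPGroup 2 (TY S Z j) :=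
  S.isPGroup'.to_le inf_le_left

theorem T_norm_B (j : Fin k) : TY S Z j ≤ normalizer (B : Set G) := h.le_norm_B (T_two S Z j) (B_le_T h j)

theorem T_norm_Z (j l : Fin k) : TY S Z j ≤ normalizer (Z l : Set G) := fun _ ht =>
  mem_normalizer_iff_cj.2 (fixB h (T_norm_B h j ht) ht.2 l).2

theorem card_T (i j : Fin k) : Nat.card (TY S Z i) = Nat.card (TY S Z j) := by
  obtain ⟨s, hs, e⟩ := h.trans i j
  obtain ⟨σ, hσ⟩ := h.perm_W (h.S_norm_B hs)
  have h1 : σ i = j := h.W_inj (by rw [← (hσ i).1, e])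
  have h2 : cj s (TY S Z i) = TY S Z j := by
    unfold TY
    rw [cj_inf, cj_YQ (fun l => (hσ l).2) i, cj_eq_of_mem_normalizer (Subgroup.le_normalizer hs), h1]
  rw [← h2, card_cj]

/-- **`T_j` is a Sylow 2-subgroup of `Y_j`** -/
theorem syl (j : Fin k) : Syl (TY S Z j) (YQ Z j) := by
  refine ⟨inf_le_right, T_two S Z j, fun R hR h2 hle => ?_⟩
  symm
  refine Subgroup.eq_of_le_of_card_ge hle ?_
  have hBR : B ≤ R := (B_le_T h j).trans hle
  have h1 : R ≤ normalizer (B : Set G) := h.le_norm_B h2 hBR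
  obtain ⟨R', hR', hle'⟩ := exists_syl h2 h1
  have hS : Syl (S : Subgroup G) (normalizer (B : Set G)) :=
    ⟨h.S_norm_B, S.isPGroup', fun _ _ hT hST => S.is_maximal' hT hST⟩
  obtain ⟨x, hx, e⟩ := syl_conj hR' hS
  obtain ⟨σ, hσ⟩ := h.perm_W hx
  have h3 : cj x R ≤ TY S Z (σ j) := by
    refine le_inf ?_ ?_
    · rw [← e]
      exact cj_mono x hle'
    · rw [← cj_YQ (fun l => (hσ l).2) j]
      exact cj_mono x hR
  rw [← card_cj x R, card_T h j (σ j)]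
  exact Subgroup.card_le_of_le h3

/-- the Frattini argument -/
theorem frat {j : Fin k} {x : G} (hx : x ∈ YQ Z j) (hJ : x ∈ normalizer (ZJ : Set G)) :
    ∃ d ∈ centralizer (ZJ : Set G), ∃ n ∈ YQ Z j, n ∈ normalizer (B : Set G) ∧ x = d * n := by
  obtain ⟨d, hd, hdy⟩ := FourQ.exists_frattini h hJ
  exact ⟨d⁻¹, inv_mem hd, d * x, mul_mem (D_le h j hd) hx, hdy, by group⟩

/-- an element of `Y_j` normalising `Z_J` normalises all `Z_l` -/
theorem norm_ZJ {j : Fin k} {x : G} (hx : x ∈ YQ Z j) (hJ : x ∈ normalizer (ZJ : Set G)) (l : Fin k) :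
    x ∈ normalizer (Z l : Set G) := by
  obtain ⟨d, hd, n, hn, hnB, rfl⟩ := frat h hx hJ
  refine mul_mem ?_ (mem_normalizer_iff_cj.2 (fixB h hnB hn l).2)
  exact centralizer_le_normalizer _ (centralizer_le (h.fr.Z_le l) hd)

end Cfsg.Agent.Omega.EK3.QG.BgY
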