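import Cfsg.Agent.Omega.EK3.QG.Facts
import Cfsg.Agent.Omega.EK3.Q.NoOn

/-!
# (E), `k ≥ 3`, `q ≥ 4` (bb #22703, #23165, #23990): `(NO)` over the frame `FrG`

`FrG.noOn` : `|A : C_A(N_j)| ≤ |N_j : C_{N_j}(A)|` for the elementary abelian subgroups `A` of `O₂(D)`.

Port of `EK3/Q/NoOn.lean` to the frame `FrG` over `MulG`.
-/

set_option autoImplicit false
set_option linter.unusedSectionVars false

namespace Cfsg.Agent.Omega.EK3.QG

open Subgroup Cfsg Cfsg.Agent.ZN.ChoiceBase
open Cfsg.Agent.ZN (jj zj bau zc zl o2)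
open Cfsg.Agent.ZN.ChoiceSit (Syl exists_syl syl_conj isPGroup_o2 le_o2 le_normalizer_o2 o2_le_syl syl_not_dvd)
open Cfsg.Agent.Omega
open Cfsg.Agent.Omega.OM
open Cfsg.Agent.Omega.NO3S.EThree.Frame
open Cfsg.Agent.Omega.NO3S.EMany
open Cfsg.Agent.Omega.ML.Final (MLK)

open Cfsg.Agent.Omega.Node.MulG
open Cfsg.Agent.Omega.EK3.Q

universe u

variable {G : Type u} [Group G] {k : ℕ}

namespace FrG

variable [Finite G] {S : Sylow 2 G} {P K B ZJ : Subgroup G} {L W Z C : Fin k → Subgroup G} {q : ℕ}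
  (h : FrG S P K B ZJ L W Z C q)
include h

/-- **(NO)** at `m`, over `T_j` -/
theorem no_m (hML : MLK.{u, u}) {j : Fin k} {m : G} (hm : m ∈ Z j)
    (hm1 : m ≠ 1) (hmT : TY S Z j ≤ centralizer ({m} : Set G)) (hK : IsKGroup (YQ Z j)) {A : Subgroup G}
    (hA : A ≤ o2 (YQ Z j ⊓ centralizer ({m} : Set G))) (hA2 : ∀ a ∈ A, a ^ 2 = 1) :
    (centralizer (NQ Z j : Set G)).relIndex A ≤ (centralizer (A : Set G)).relIndex (NQ Z j) := by
  have hmain : (A ⊓ centralizer (NQ Z j : Set G)).relIndex A ≤
      (NQ Z j ⊓ centralizer (A : Set G)).relIndex (NQ Z j) := by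
    refine hML.grp (C := YQ Z j) (W := NQ Z j) (Y := ⊥) (T := TY S Z j)
      (Q := o2 (YQ Z j ⊓ centralizer ({m} : Set G))) (A := A) (w := m) hK
      { nW := h.NQ_norm j
        nY := fun x _ => by
          rw [mem_normalizer_iff]
          intro y
          rw [mem_bot, mem_bot, conj_eq_one_iff]
        YW := bot_le
        WY := fun x _ => by
          rw [mem_normalizer_iff]
          intro y
          rw [mem_bot, mem_bot, conj_eq_one_iff]
        sq := fun x hx => by
          rw [mem_bot, ← pow_two]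
          exact h.NQ_sq hx
        mem := h.Z_le_NQ j hm
        gen := fun U hmU _ hU => by
          refine h.NQ_min (fun z hz => ?_) hU
          by_cases hz1 : z = 1
          · rw [hz1]; exact one_mem _
          obtain ⟨l, hl, e⟩ := h.trL ((h.mul.bg.fr.blk j).ZV hz) hz1 hm hm1
          rw [← e]
          exact (mem_normalizer_iff.1 (hU (h.L_le j hl)) m).1 hmU
        TC := (h.syl j).1
        two := (h.syl j).2.1
        odd := syl_not_dvd (h.syl j)
        fixT := fun t ht => by
          rw [mem_bot, mem_centralizer_singleton_iff.1 (hmT ht)]; group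
        QC := (MinSimple.VModule.o2_le _).trans inf_le_left
        Q2 := isPGroup_o2 _
        fixQ := fun x hx => by
          rw [mem_bot, mem_centralizer_singleton_iff.1 (MinSimple.VModule.o2_le _ hx).2]; group
        nrmQ := fun g hg hgm x hx => by
          rw [mem_bot, mul_inv_eq_one] at hgm
          have h1 : g ∈ YQ Z j ⊓ centralizer ({m} : Set G) := by
            refine mem_inf.2 ⟨hg, ?_⟩
            rw [mem_centralizer_singleton_iff]
            exact mul_inv_eq_iff_eq_mul.1 hgm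
          exact (mem_normalizer_iff.1 (le_normalizer_o2 _ h1) x).1 hx
        AQ := hA
        Asq := fun a ha x hx => by
          have h1 := hA2 a ha
          rw [mem_bot]
          calc a * (a * x * a⁻¹) * a⁻¹ * x⁻¹ = a ^ 2 * x * (a ^ 2)⁻¹ * x⁻¹ := by rw [pow_two]; group
            _ = 1 := by rw [h1]; group } ?_ ?_
    · intro a
      rw [mem_inf]
      refine and_congr_right fun ha => ?_
      rw [mem_centralizer_iff]
      refine forall₂_congr fun x hx => ?_
      rw [mem_bot, mul_inv_eq_one, mul_inv_eq_iff_eq_mul, eq_comm]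
    · intro x
      rw [mem_inf]
      refine and_congr_right fun hx => ?_
      rw [mem_centralizer_iff]
      refine forall₂_congr fun a ha => ?_
      rw [mem_bot, mul_inv_eq_one, mul_inv_eq_iff_eq_mul]
  rwa [inf_relIndex_left, inf_relIndex_left] at hmain

/-- **(NO)** for `A ≤ O₂(D)` -/
theorem no_D (hML : MLK.{u, u}) {j : Fin k} (hK : IsKGroup (YQ Z j)) {A : Subgroup G}
    (hA : A ≤ o2 (centralizer (ZJ : Set G))) (hA2 : ∀ a ∈ A, a ^ 2 = 1) :
    (centralizer (NQ Z j : Set G)).relIndex A ≤ (centralizer (A : Set G)).relIndex (NQ Z j) := by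
  obtain ⟨m, hm, hm1, hmT⟩ := h.exists_m j
  exact h.no_m hML hm hm1 hmT hK (hA.trans (h.O_le hm hm1)) hA2

/-- **(NO)** in the form of `StarE.Fr.no` -/
theorem noOn (hML : MLK.{u, u}) {j : Fin k} (hK : IsKGroup (YQ Z j)) :
    Rank.NoOn (o2 (centralizer (ZJ : Set G))) (NQ Z j) := fun _ hA hAO => h.no_D hML hK hAO hA.2

end FrG

end Cfsg.Agent.Omega.EK3.QG
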