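import Cfsg.Agent.Omega.EK3.QG.LocE
import Cfsg.Agent.Omega.EK3.QG.NoOn

/-!
# (E), `k ≥ 3`, `q ≥ 4` (bb #22703, #23133, #23990): STAR over the frame `FrG`, plugged

`FrG.out` : `exists_out` with 120's frame of STAR (`starFr`), 968's `gen`, (NO).

Port of `EK3/Q/Out.lean` to the frame `FrG` over `MulG`.
-/

set_option autoImplicit false
set_option linter.unusedSectionVars false

namespace Cfsg.Agent.Omega.EK3.QG

open Subgroup Cfsg Cfsg.Agent.ZN.ChoiceBase
open Cfsg.Agent.ZN (zc zl o2)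
open Cfsg.Agent.Omega.Node.MultiOf
open Cfsg.Agent.Omega.ML.Final (MLK)

open Cfsg.Agent.Omega.Node.MulG
open Cfsg.Agent.Omega.EK3.Q

universe u

variable {G : Type u} [Group G] {k : ℕ}

namespace FrG

variable [Finite G] {S : Sylow 2 G} {P K B ZJ : Subgroup G} {L W Z C : Fin k → Subgroup G} {q : ℕ}
  (h : FrG S P K B ZJ L W Z C q)
include h

/-- **STAR over `FrG`.** -/
theorem out (hML : MLK.{u, u}) (hK : ∀ j, IsKGroup (YQ Z j)) (hN : NLoc (centralizer (ZJ : Set G) ⊔ ⨆ i, L i)) :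
    ∃ i j F, OutQ ZJ W Z i j F :=
  h.exists_outQ hN fun _ => h.noOn hML (hK _)

end FrG

end Cfsg.Agent.Omega.EK3.QG
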