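import Cfsg.Agent.Omega.EK3.QG.Two
import Cfsg.Agent.Omega.EK3.QG.Out
import Cfsg.Agent.Omega.KL.Q.EndG

/-!
# (E), `k ≥ 3`, `q ≥ 4`, over `MulG`: the end (port of `EK3/Q/End.lean` of helper176)

* `FrG.gInQ_of` : `(Gq)` for the exact group `F` of STAR;
* **`FrG.false`** : the frame `FrG` is impossible (`MLK`, `Ext`).
-/

set_option autoImplicit false
set_option maxHeartbeats 400000

namespace Cfsg.Agent.Omega.EK3.QG

open Subgroup Cfsg Cfsg.Agent.ZN.ChoiceBase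
open Cfsg.Agent.ZN (jj zj bau zc zl o2)
open Cfsg.Agent.Omega
open Cfsg.Agent.Omega.OM Cfsg.Agent.Omega.OM.Uni
open Cfsg.Agent.Omega.NO3S.EThree.Frame
open Cfsg.Agent.Omega.Node.MultiOf
open Cfsg.Agent.Omega.Node.MulG
open Cfsg.Agent.Omega.EK3.Q (YQ CQ NQ TY OutQ)
open Cfsg.Agent.Omega.EK3.StarE (EE norm_EE le_EE)
open Cfsg.Agent.Omega.EK3.Two (Zs Z_le_Zs)

universe u

variable {G : Type u} [Group G] {k : ℕ}

namespace FrG

variable [Finite G] {S : Sylow 2 G} {P K B ZJ : Subgroup G} {L W Z C : Fin k → Subgroup G} {q : ℕ}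
  (h : FrG S P K B ZJ L W Z C q)
include h

theorem MQ_le_EE (i j : Fin k) : MQ Z W ZJ i j ≤ EE ZJ (YQ Z i ⊔ YQ Z j) :=
  h.MQ_min (sup_le ((h.W_le_NQ i).trans (h.NQ_le_EE' j i |>.trans (by rw [sup_comm]))) (le_EE _ _))
    ((le_sup_right : YQ Z j ≤ YQ Z i ⊔ YQ Z j).trans (norm_EE _ _))

/-- **`(Gq)` for the exact group of STAR** -/
theorem gInQ_of {i j : Fin k} {F : Subgroup G} (o : OutQ ZJ W Z i j F) (KG : IsKGroup (YQ Z j)) :
    KL.Q.PlugGG.GInQ (TY S Z j) (YQ Z j) (MQ Z W ZJ i j) (Zs Z j) ZJ (PQ Z W i j) F := by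
  have h1 := o.exact (MQ Z W ZJ i j) (h.NQ_le_MQ i j) (h.MQ_le_EE i j)
  refine h.gInQ o.ne KG (h.nX j) (h.nY i j) (fun R hR hRY m hm hT hmv => h.u1 o.ne hR hRY hm hT hmv)
    (fun R hR hRY hn => h.u2 o.ne hR hRY hn) (fun a ha => ?_) o.leO o.low o.mov h1.1 ?_
  · rw [← pow_two]
    exact o.eab.2 a ha
  · exact (h1.2.2.trans h1.2.1.symm).le

/-- **The frame `FrG` is impossible.** -/
theorem false (hML : ML.Final.MLK.{u, u}) (hE : ML.Ex.Two.Ext.{u, u}) (hK : ∀ j, IsKGroup (YQ Z j))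
    (hN : NLoc (centralizer (ZJ : Set G) ⊔ ⨆ i, L i)) : False := by
  obtain ⟨i, j, F, o⟩ := h.out hML hK hN
  obtain ⟨M, _, _, _, X', Y', hp⟩ := (h.gInQ_of o (hK j)).pre
  exact KL.Q.EndG.noPreG hML hE _ _ _ _ _ _ hp

end FrG

end Cfsg.Agent.Omega.EK3.QG
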