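import Cfsg.Agent.Omega.EK3.QG.Def
import Cfsg.Agent.Omega.NO3S.EThree.FrameGB

/-!
# (E), `k ≥ 3`, `q ≥ 4` (bb #22703, #23165): basic facts over the frame `FrG` (port of `EK3/Q/Inst.lean` to `MulG`)

* `stab`, `sylD`, `syl`, `conj`, `fixB`; `TY_com` : `T_j` acts trivially on `W l / Z l` (`l ≠ j`);
* `exists_m`, `char2`, `NQ_eq`, `W_le_NQ`, `NQ_le_zc`, `Q_eq`, `O_le`;
* `normZ`, `frat`.
-/

set_option autoImplicit false
set_option linter.unusedSectionVars false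

namespace Cfsg.Agent.Omega.EK3.QG

open Subgroup Cfsg Cfsg.Agent.ZN.ChoiceBase
open Cfsg.Agent.ZN (jj zj bau zc zl o2)
open Cfsg.Agent.ZN.ChoiceSit (Syl exists_syl syl_conj o2_le_syl)
open Cfsg.Agent.Omega.OM Cfsg.Agent.Omega.OM.Uni
open Cfsg.Agent.Omega.NO3S.EThree.Frame
open Cfsg.Agent.Omega.Node.MultiOf
open Cfsg.Agent.Omega.Node.MulG
open Cfsg.Agent.Omega.EK3.Q (YQ CQ NQ TY mem_YQ mem_CQ CQ_comm YQ_le_left YQ_le_right YQ_cent CQ_cent YQ_eq_cent CQ_eq_cent)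
open Cfsg.Agent.MinSimple.VModule (le_normalizer_o2 o2_isPGroup le_o2 o2_le mem_zc)
open Cfsg.Agent.MinSimple.MinParabolic (IsMinPar)
open scoped Pointwise

universe u

variable {G : Type u} [Group G] {k : ℕ}

namespace FrG

variable [Finite G] {S : Sylow 2 G} {P K B ZJ : Subgroup G} {L W Z C : Fin k → Subgroup G} {q : ℕ}
  (h : FrG S P K B ZJ L W Z C q)
include h

theorem bg : Bg S P B ZJ L W Z C q := h.mul.bg

theorem lb : LevD.LB S K B ZJ := h.mul.lb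

theorem two_lt : 2 < q := lt_of_lt_of_le (by norm_num) h.four

theorem exists_ne (j : Fin k) : ∃ i, i ≠ j := h.bg.two j

theorem Z_le_C {l j : Fin k} (hl : l ≠ j) : Z l ≤ C j := (h.bg.fr.blk l).ZV.trans (h.bg.fr.WjC j l hl.symm)

theorem D_le (j : Fin k) : centralizer (ZJ : Set G) ≤ YQ Z j := fun _ hx =>
  mem_YQ.2 fun l _ z hz => (mem_centralizer_iff.1 hx z (h.bg.fr.Z_le l hz)).symm

theorem L_le (j : Fin k) : L j ≤ YQ Z j := fun x hx =>
  mem_YQ.2 fun l hl z hz => h.bg.fr.LC j x hx z (h.bg.fr.Z_le l hz) (h.Z_le_C hl hz)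

theorem B_le_D : B ≤ centralizer (ZJ : Set G) := h.bg.eqB.le.trans inf_le_right

theorem B_le_Y (j : Fin k) : B ≤ YQ Z j := h.B_le_D.trans (h.D_le j)

theorem B_le_T (j : Fin k) : B ≤ TY S Z j := le_inf h.bg.BS (h.B_le_Y j)

theorem W_le_B (j : Fin k) : W j ≤ B := (h.bg.fr.WV j).trans h.bg.fr.VB

theorem Z_le_B (j : Fin k) : Z j ≤ B := (h.bg.fr.blk j).ZV.trans (h.W_le_B j)

/-- `ZJ = ⟨Z l⟩` -/
theorem ZJ_eq : ZJ = ⨆ l, Z l := by
  apply le_antisymm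
  · intro z hz
    obtain ⟨i⟩ : Nonempty (Fin k) := ⟨⟨0, lt_of_lt_of_le (by norm_num) h.three⟩⟩
    obtain ⟨w, hw, c, hc, hcJ, rfl⟩ := h.bg.fr.split_ZJ i hz
    have h1 : c ∈ ⨆ j : {j : Fin k // j ≠ i}, Z j := h.bg.ZC_le i ⟨hcJ, hc⟩
    have h2 : (⨆ j : {j : Fin k // j ≠ i}, Z j) ≤ ⨆ l, Z l := iSup_le fun j => le_iSup Z j.1
    exact mul_mem (le_iSup Z i hw) (h2 h1)
  · exact iSup_le h.bg.fr.Z_le

theorem mem_D {x : G} : x ∈ centralizer (ZJ : Set G) ↔ ∀ l, ∀ z ∈ Z l, x * z = z * x := by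
  constructor
  · exact fun hx l z hz => (mem_centralizer_iff.1 hx z (h.bg.fr.Z_le l hz)).symm
  · intro hx
    have h1 : ZJ ≤ centralizer ({x} : Set G) := by
      rw [h.ZJ_eq]
      exact iSup_le fun l z hz => by
        rw [mem_centralizer_singleton_iff]
        exact (hx l z hz).symm
    exact mem_centralizer_iff.2 fun z hz => mem_centralizer_singleton_iff.1 (h1 hz)

/-- **`C_{Y_j}(Z_j) = D`** -/
theorem stab (j : Fin k) : YQ Z j ⊓ centralizer (Z j : Set G) = centralizer (ZJ : Set G) := by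
  apply le_antisymm
  · rintro x ⟨hx, hxc⟩
    rw [h.mem_D]
    intro l z hz
    by_cases hl : l = j
    · subst hl
      exact (mem_centralizer_iff.1 hxc z hz).symm
    · exact mem_YQ.1 hx l hl z hz
  · exact le_inf (h.D_le j) (centralizer_le (h.bg.fr.Z_le j))

theorem sylD : Syl B (centralizer (ZJ : Set G)) := h.bg.syl_B

theorem O_le_B : o2 (centralizer (ZJ : Set G)) ≤ B := o2_le_syl h.sylD

/-! ### `N_G(B)` -/

omit h [Finite G] in
theorem cj_YQ_le {n : G} {σ : Equiv.Perm (Fin k)} (hσ : ∀ l, cj n (Z l) = Z (σ l)) (j : Fin k) :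
    YQ Z (σ j) ≤ cj n (YQ Z j) := by
  intro x hx
  rw [mem_cj]
  refine mem_YQ.2 fun l hl z hz => ?_
  have h1 : n * z * n⁻¹ ∈ Z (σ l) := (hσ l) ▸ ⟨z, hz, rfl⟩
  have h2 := mem_YQ.1 hx (σ l) (fun e => hl (σ.injective e)) _ h1
  have h3 := congrArg (fun t => n⁻¹ * t * n) h2
  have e1 : n⁻¹ * (x * (n * z * n⁻¹)) * n = n⁻¹ * x * n * z := by group
  have e2 : n⁻¹ * (n * z * n⁻¹ * x) * n = z * (n⁻¹ * x * n) := by group
  rw [← e1, ← e2]
  exact h3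

omit h [Finite G] in
theorem cj_YQ {n : G} {σ : Equiv.Perm (Fin k)} (hσ : ∀ l, cj n (Z l) = Z (σ l)) (j : Fin k) :
    cj n (YQ Z j) = YQ Z (σ j) := by
  refine le_antisymm ?_ (cj_YQ_le hσ j)
  have hσ' : ∀ l, cj n⁻¹ (Z l) = Z (σ.symm l) := by
    intro l
    have h1 := hσ (σ.symm l)
    rw [Equiv.apply_symm_apply] at h1
    rw [← h1, cj_inv_cj]
  have h2 := cj_YQ_le hσ' (σ j)
  rw [Equiv.symm_apply_apply] at h2
  have h3 := cj_mono n h2
  rwa [cj_cj_inv] at h3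

omit h [Finite G] in
theorem cj_V (n : G) (X Y : Subgroup G) : cj n (NoFF.Basic.V X Y) = NoFF.Basic.V (cj n X) (cj n Y) := by
  have key : ∀ (n : G) (X Y : Subgroup G), NoFF.Basic.V (cj n X) (cj n Y) ≤ cj n (NoFF.Basic.V X Y) := by
    intro n X Y
    refine NoFF.Basic.V_le fun p hp => ?_
    rw [mem_cj] at hp
    have h1 : cj (n⁻¹ * p * n) X ≤ NoFF.Basic.V X Y := NoFF.Basic.Z_le_V hp
    have h2 := cj_mono n h1
    rw [cj_cj] at h2
    have e : n * (n⁻¹ * p * n) = p * n := by group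
    rw [e, ← cj_cj] at h2
    exact h2
  refine le_antisymm ?_ (key n X Y)
  have h1 := cj_mono n (key n⁻¹ (cj n X) (cj n Y))
  rwa [cj_inv_cj, cj_inv_cj, cj_cj_inv] at h1

omit h [Finite G] in
theorem cj_NQ {n : G} {σ : Equiv.Perm (Fin k)} (hσ : ∀ l, cj n (Z l) = Z (σ l)) (j : Fin k) :
    cj n (NQ Z j) = NQ Z (σ j) := by
  unfold NQ
  rw [cj_V, hσ j, cj_YQ hσ j]

/-- **`N_G(B)` permutes everything** -/
theorem conj {n : G} (hn : n ∈ normalizer (B : Set G)) : ∃ σ : Equiv.Perm (Fin k), ∀ l,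
    cj n (W l) = W (σ l) ∧ cj n (Z l) = Z (σ l) ∧ cj n (YQ Z l) = YQ Z (σ l) ∧ cj n (NQ Z l) = NQ Z (σ l) := by
  obtain ⟨σ, hσ⟩ := h.bg.perm_W hn
  exact ⟨σ, fun l => ⟨(hσ l).1, (hσ l).2, cj_YQ (fun l => (hσ l).2) l, cj_NQ (fun l => (hσ l).2) l⟩⟩

/-- `N_G(B) ∩ Y_j` fixes all indices -/
theorem fixB {n : G} (hn : n ∈ normalizer (B : Set G)) {j : Fin k} (hY : n ∈ YQ Z j) (l : Fin k) :
    cj n (W l) = W l ∧ cj n (Z l) = Z l := by
  obtain ⟨σ, hσ⟩ := h.bg.perm_W hn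
  have h1 : ∀ l, l ≠ j → σ l = l := by
    intro l hl
    refine h.bg.Z_inj ?_
    rw [← (hσ l).2]
    exact mem_normalizer_iff_cj.1 (centralizer_le_normalizer _ (YQ_cent hl hY))
  have h2 : σ l = l := by
    by_cases hl : l = j
    · subst hl
      by_contra hne
      exact hne (σ.injective (h1 _ hne))
    · exact h1 l hl
  have h3 := hσ l
  rwa [h2] at h3

/-! ### The Sylow group `T_j` -/

theorem T_two (j : Fin k) : IsPGroup 2 (TY S Z j) := S.isPGroup'.to_le inf_le_left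

theorem T_norm_B (j : Fin k) : TY S Z j ≤ normalizer (B : Set G) := h.bg.le_norm_B (h.T_two j) (h.B_le_T j)

theorem T_norm_W (j l : Fin k) : TY S Z j ≤ normalizer (W l : Set G) := fun _ ht =>
  mem_normalizer_iff_cj.2 (h.fixB (h.T_norm_B j ht) ht.2 l).1

theorem T_norm_Z (j l : Fin k) : TY S Z j ≤ normalizer (Z l : Set G) := fun _ ht =>
  mem_normalizer_iff_cj.2 (h.fixB (h.T_norm_B j ht) ht.2 l).2

theorem cj_T {s : G} (hs : s ∈ (S : Subgroup G)) {σ : Equiv.Perm (Fin k)} (hσ : ∀ l, cj s (Z l) = Z (σ l))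
    (j : Fin k) : cj s (TY S Z j) = TY S Z (σ j) := by
  unfold TY
  rw [cj_inf, cj_YQ hσ j, cj_eq_of_mem_normalizer (Subgroup.le_normalizer hs)]

/-- **`S` is transitive** -/
theorem conj_S (i j : Fin k) : ∃ s ∈ (S : Subgroup G), ∃ σ : Equiv.Perm (Fin k), σ i = j ∧ ∀ l,
    cj s (W l) = W (σ l) ∧ cj s (Z l) = Z (σ l) ∧ cj s (YQ Z l) = YQ Z (σ l) ∧ cj s (NQ Z l) = NQ Z (σ l) ∧
      cj s (TY S Z l) = TY S Z (σ l) := by
  obtain ⟨s, hs, e⟩ := h.bg.trans i j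
  obtain ⟨σ, hσ⟩ := h.conj (h.bg.S_norm_B hs)
  refine ⟨s, hs, σ, h.bg.W_inj (by rw [← (hσ i).1, e]), fun l => ⟨(hσ l).1, (hσ l).2.1, (hσ l).2.2.1, (hσ l).2.2.2,
    h.cj_T hs (fun l => (hσ l).2.1) l⟩⟩

theorem card_T (i j : Fin k) : Nat.card (TY S Z i) = Nat.card (TY S Z j) := by
  obtain ⟨s, -, σ, rfl, hσ⟩ := h.conj_S i j
  rw [← (hσ i).2.2.2.2, card_cj]

/-- **`T_j` is a Sylow 2-subgroup of `Y_j`** -/
theorem syl (j : Fin k) : Syl (TY S Z j) (YQ Z j) := by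
  refine ⟨inf_le_right, h.T_two j, fun R hR h2 hle => ?_⟩
  symm
  refine Subgroup.eq_of_le_of_card_ge hle ?_
  have hBR : B ≤ R := (h.B_le_T j).trans hle
  have h1 : R ≤ normalizer (B : Set G) := h.bg.le_norm_B h2 hBR
  obtain ⟨R', hR', hle'⟩ := exists_syl h2 h1
  have hS : Syl (S : Subgroup G) (normalizer (B : Set G)) :=
    ⟨h.bg.S_norm_B, S.isPGroup', fun _ _ hT hST => S.is_maximal' hT hST⟩
  obtain ⟨x, hx, e⟩ := syl_conj hR' hS
  obtain ⟨σ, hσ⟩ := h.conj hx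
  have h3 : cj x R ≤ TY S Z (σ j) := by
    refine le_inf ?_ ?_
    · rw [← e]
      exact cj_mono x hle'
    · rw [← (hσ j).2.2.1]
      exact cj_mono x hR
  rw [← card_cj x R, h.card_T j (σ j)]
  exact Subgroup.card_le_of_le h3

/-- `C_{Z_j}(T_j) ≠ 1` -/
theorem exists_m (j : Fin k) : ∃ m ∈ Z j, m ≠ 1 ∧ TY S Z j ≤ centralizer ({m} : Set G) := by
  have : Fact (Nat.Prime 2) := ⟨Nat.prime_two⟩
  set T := TY S Z j with hT
  have hZT : Z j ≤ T := (h.Z_le_B j).trans (h.B_le_T j)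
  have hnil : Group.IsNilpotent T := (h.T_two j).isNilpotent
  have hnor : ((Z j).subgroupOf T).Normal := normal_subgroupOf_of_le_normalizer (h.T_norm_Z j j)
  have hne : (Z j).subgroupOf T ≠ ⊥ := by
    rw [Ne, subgroupOf_eq_bot, disjoint_iff]
    intro e
    rw [inf_eq_left.2 hZT] at e
    exact h.bg.Z_ne j e
  have h1 := Lib.NormalAbelian.normal_inf_center_ne_bot ((Z j).subgroupOf T) hne
  obtain ⟨⟨⟨x, hx⟩, hxZ, hxc⟩, hx1⟩ := Subgroup.ne_bot_iff_exists_ne_one.1 h1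
  refine ⟨x, mem_subgroupOf.1 hxZ, fun e => hx1 (Subtype.ext (Subtype.ext e)), fun t ht => ?_⟩
  rw [mem_centralizer_singleton_iff]
  exact congrArg Subtype.val (mem_center_iff.1 hxc ⟨t, ht⟩)

end FrG

end Cfsg.Agent.Omega.EK3.QG
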