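import Cfsg.Agent.Omega.EK3.QG.Facts

/-!
# (E), `k ≥ 3`, `q ≥ 4` (bb #22703, #23165): the minimal parabolics over `T_j` in `Y_j`

* `blk_idx` : a block with module `W j`;  `blk_both` = (BLK) : `L' ≤ L_j C_D(W_j)`, `L_j ≤ L' C_D(W_j)`;
* `par`;  `gen` : `Y_j = ⟨D, L_j, N_{Y_j}(B)⟩`;  `nonloc` (port of `EK3/Q/Par.lean` to `MulG`).
-/

set_option autoImplicit false
set_option linter.unusedSectionVars false
set_option linter.unusedVariables false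

namespace Cfsg.Agent.Omega.EK3.QG

open Subgroup Cfsg Cfsg.Agent.ZN.ChoiceBase
open Cfsg.Agent.ZN (jj zj bau zc zl o2)
open Cfsg.Agent.ZN.ChoiceSit (Syl exists_syl syl_conj isPGroup_o2 le_o2 le_normalizer_o2 o2_le_syl syl_not_dvd)
open Cfsg.Agent.Omega
open Cfsg.Agent.Omega.OM Cfsg.Agent.Omega.OM.Uni
open Cfsg.Agent.Omega.OM.UniPlus (NB)
open Cfsg.Agent.Omega.NO3S.EThree.Frame
open Cfsg.Agent.Omega.NO3S.EMany
open Cfsg.Agent.Omega.Node.MultiOf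
open Cfsg.Agent.Omega.Node.MulG
open Cfsg.Agent.Omega.EK3.Q (YQ CQ NQ TY mem_YQ mem_CQ CQ_comm YQ_le_left YQ_le_right YQ_cent CQ_cent YQ_eq_cent CQ_eq_cent)
open Cfsg.Agent.MinSimple.MinParabolic (IsMinPar)
open scoped Pointwise

universe u

variable {G : Type u} [Group G] {k : ℕ}

namespace FrG

variable [Finite G] {S : Sylow 2 G} {P K B ZJ : Subgroup G} {L W Z C : Fin k → Subgroup G} {q : ℕ}
  (h : FrG S P K B ZJ L W Z C q)
include h

theorem nb (j : Fin k) : NB B (L j) (W j) (Z j) q := FourQ.nb h.bg j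

theorem rt (j : Fin k) : AltQ.Rt B (W j) (Z j) := FourQ.rt h.bg j

omit h in
theorem cent_sup (W ZJ : Subgroup G) :
    centralizer ((W ⊔ ZJ : Subgroup G) : Set G) = centralizer (ZJ : Set G) ⊓ centralizer (W : Set G) := by
  apply le_antisymm
  · exact le_inf (centralizer_le (le_sup_right : ZJ ≤ W ⊔ ZJ)) (centralizer_le (le_sup_left : W ≤ W ⊔ ZJ))
  · rintro x ⟨h1, h2⟩
    have h3 : W ⊔ ZJ ≤ centralizer ({x} : Set G) := sup_le
      (fun w hw => mem_centralizer_singleton_iff.2 (mem_centralizer_iff.1 h2 w hw))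
      (fun w hw => mem_centralizer_singleton_iff.2 (mem_centralizer_iff.1 h1 w hw))
    exact mem_centralizer_iff.2 fun w hw => mem_centralizer_singleton_iff.1 (h3 hw)

/-- a block with module `W j` -/
theorem blk_idx {L' : Subgroup G} {j : Fin k} (hb : FBl B L' (W j)) : NB B L' (W j) (Z j) q := by
  obtain ⟨⟨Z', q', hF⟩, -⟩ := hb
  have hZ' : Z' = Z j := by
    ext x
    rw [hF.toMd.mem_Z_iff, (h.bg.fr.blk j).toMd.mem_Z_iff]
  subst hZ'
  have hq' : q' = q := by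
    have h3 := hF.card
    rw [(h.bg.fr.blk j).card, h.bg.fr.cardZ] at h3
    have h4 := h.four
    exact (Nat.eq_of_mul_eq_mul_left (by omega) h3).symm
  subst hq'
  exact ⟨hF, h.bg.fr.cardZ j⟩

/-- two blocks in `Y_j` -/
theorem blk_two {j : Fin k} {L₁ L₂ : Subgroup G} (h1 : L₁ ≤ YQ Z j) (h2 : L₂ ≤ YQ Z j)
    (hN₁ : NB B L₁ (W j) (Z j) q) (hN₂ : NB B L₂ (W j) (Z j) q) :
    L₂ ≤ L₁ ⊔ (centralizer (ZJ : Set G) ⊓ centralizer (W j : Set G)) := by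
  have hstar := UniPlus.star_main h.bg.wc h.bg.bau_two hN₁ hN₂ rfl rfl rfl (fun y hy => ?_)
  · have h3 := hstar.2.2
    rwa [h.bg.fr.zcB, cent_sup] at h3
  · obtain ⟨z, hz, hz1⟩ : ∃ z ∈ Z j, z ≠ 1 := by
      by_contra hcon
      push Not at hcon
      exact h.bg.Z_ne j ((eq_bot_iff_forall _).2 hcon)
    have hv : y * z * y⁻¹ ∈ W j := hN₂.nV y hy z (hN₂.ZV hz)
    obtain ⟨l, hl, e⟩ := AltQ.trL hN₁ (h.rt j) hv (fun e => hz1 (conj_eq_one_iff.1 e)) hz hz1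
    have h3 : l⁻¹ * y ∈ normalizer (Z j : Set G) := by
      refine h.cent_m hz hz1 (mem_inf.2 ⟨mul_mem (inv_mem (h1 hl)) (h2 hy), ?_⟩)
      rw [mem_centralizer_singleton_iff]
      have e2 : l⁻¹ * (y * z * y⁻¹) * l = z := by rw [← e]; group
      calc l⁻¹ * y * z = l⁻¹ * (y * z * y⁻¹) * l * (l⁻¹ * y) := by group
        _ = z * (l⁻¹ * y) := by rw [e2]
    have h4 : cj y (Z j) = cj l (Z j) := by
      have e3 := mem_normalizer_iff_cj.1 h3
      conv_rhs => rw [← e3, cj_cj, mul_inv_cancel_left]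
    refine ⟨l, hl, fun v hv => ⟨v, h4 ▸ hv, 1, fun l _ => by simp, by simp⟩⟩

/-- **(BLK)** -/
theorem blk_both {L' : Subgroup G} {j : Fin k} (hb : FBl B L' (W j)) (hL : L' ≤ YQ Z j) :
    L' ≤ L j ⊔ (centralizer (ZJ : Set G) ⊓ centralizer (W j : Set G)) ∧
      L j ≤ L' ⊔ (centralizer (ZJ : Set G) ⊓ centralizer (W j : Set G)) :=
  ⟨h.blk_two (h.L_le j) hL (h.nb j) (h.blk_idx hb), h.blk_two hL (h.L_le j) (h.blk_idx hb) (h.nb j)⟩

/-- **The minimal parabolics over `T_j` in `Y_j`.** -/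
theorem par' {j : Fin k} {R : Subgroup G} (hR : IsMinPar (TY S Z j) R) (hRY : R ≤ YQ Z j) :
    R ≤ normalizer (Z j : Set G) ∨ ∃ L' : Subgroup G, L' ≤ R ∧ FBl B L' (W j) ∧ NB B L' (W j) (Z j) q ∧
      R ≤ L' ⊔ TY S Z j := by
  have hTR := h.syl_of hR.le hRY
  by_cases hK : K ≤ o2 R
  · left
    have h1 : R ≤ normalizer (ZJ : Set G) := (le_normalizer_o2 R).trans (h.lb.nrm _ (isPGroup_o2 R) hK)
    exact fun r hr => h.norm_ZJ (hRY hr) (h1 hr) j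
  obtain ⟨m, hm, hm1, hmT⟩ := h.exists_m j
  by_cases hZ : R ≤ centralizer (zc (TY S Z j) : Set G)
  · left
    refine fun r hr => h.cent_m hm hm1 ⟨hRY hr, ?_⟩
    exact centralizer_le (Set.singleton_subset_iff.2 (h.m_zc hm hmT)) (hZ hr)
  right
  have hc : R ⊓ centralizer (o2 R : Set G) ≤ o2 R :=
    MinSimple.Basic.char2_of_le (h.char2 j) ((o2_le_syl (h.syl j)).trans hR.le) hRY
  obtain ⟨L', hbl, h1, h2⟩ := h.blk j R hRY hR hTR hc hK hZ
  exact ⟨L', h1, hbl, h.blk_idx hbl, h2⟩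

/-- **The minimal parabolics over `T_j` in `Y_j`.** -/
theorem par {j : Fin k} {R : Subgroup G} (hR : IsMinPar (TY S Z j) R) (hRY : R ≤ YQ Z j) :
    R ≤ normalizer (Z j : Set G) ∨ (R ≤ normalizer (W j : Set G) ∧
      (∀ v ∈ W j, ∀ w ∈ W j, v ≠ 1 → w ≠ 1 → ∃ r ∈ R, r * v * r⁻¹ = w) ∧
      R ≤ L j ⊔ TY S Z j ⊔ (centralizer (ZJ : Set G) ⊓ centralizer (W j : Set G)) ∧
      L j ≤ R ⊔ (centralizer (ZJ : Set G) ⊓ centralizer (W j : Set G)) ∧
      ∃ L' ≤ R, FBl B L' (W j) ∧ R ≤ L' ⊔ TY S Z j) := by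
  rcases h.par' hR hRY with h1 | ⟨L', h1, hbl, hN, h2⟩
  · exact Or.inl h1
  right
  have hb := h.blk_both hbl (h1.trans hRY)
  refine ⟨?_, ?_, ?_, ?_, L', h1, hbl, h2⟩
  · refine h2.trans (sup_le (fun l hl => ?_) (h.T_norm_W j j))
    exact ML.MinFrame.le_normalizer_of (fun g hg x hx => hN.nV g hg x hx) hl
  · intro v hv w hw hv1 hw1
    obtain ⟨z, hz, hz1⟩ : ∃ z ∈ Z j, z ≠ 1 := by
      by_contra hcon
      push Not at hcon
      exact h.bg.Z_ne j ((eq_bot_iff_forall _).2 hcon)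
    obtain ⟨a, ha, rfl⟩ := AltQ.trL hN (h.rt j) hv hv1 hz hz1
    obtain ⟨b, hb, rfl⟩ := AltQ.trL hN (h.rt j) hw hw1 hz hz1
    exact ⟨b * a⁻¹, h1 (mul_mem hb (inv_mem ha)), by group⟩
  · exact h2.trans (sup_le (hb.1.trans (sup_le (le_sup_of_le_left le_sup_left) le_sup_right))
      (le_sup_of_le_left le_sup_right))
  · exact hb.2.trans (sup_le (h1.trans le_sup_left) le_sup_right)

/-- a minimal parabolic in `N(Z_j)` lies in `D N_{Y_j}(B)` -/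
theorem le_gen_of_norm {j : Fin k} {R : Subgroup G} (hRY : R ≤ YQ Z j) (hR : R ≤ normalizer (Z j : Set G)) :
    R ≤ centralizer (ZJ : Set G) ⊔ (YQ Z j ⊓ normalizer (B : Set G)) := by
  intro y hy
  obtain ⟨d, hd, n, hn, hnB, rfl⟩ := h.frat (hRY hy) (h.norm_ZJ' (hRY hy) (hR hy))
  exact mul_mem (mem_sup_left hd) (mem_sup_right (mem_inf.2 ⟨hn, hnB⟩))

/-- `N_{Y_j}(T_j) ≤ N(B)` -/
theorem norm_T_le (j : Fin k) : YQ Z j ⊓ normalizer (TY S Z j : Set G) ≤ normalizer (B : Set G) := by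
  rintro n ⟨-, hnT⟩
  rw [mem_normalizer_iff_cj]
  refine h.bg.wc (TY S Z j) (h.T_two j) (h.B_le_T j) n ?_
  rw [← mem_normalizer_iff_cj.1 hnT]
  exact cj_mono n (h.B_le_T j)

/-- **`Y_j = ⟨D, L_j, N_{Y_j}(B)⟩`** -/
theorem gen (j : Fin k) : YQ Z j ≤ centralizer (ZJ : Set G) ⊔ L j ⊔ (YQ Z j ⊓ normalizer (B : Set G)) := by
  refine MinSimple.MinParabolic.le_of_forall (h.syl j).1 ?_ fun R hR hRY => ?_
  · exact fun n hn => mem_sup_right (mem_inf.2 ⟨hn.1, h.norm_T_le j hn⟩)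
  · rcases h.par hR hRY with h1 | ⟨-, -, h3, -⟩
    · exact (h.le_gen_of_norm hRY h1).trans (sup_le (le_sup_of_le_left le_sup_left) le_sup_right)
    · refine h3.trans (sup_le (sup_le ?_ ?_) ?_)
      · exact le_sup_of_le_left le_sup_right
      · exact le_sup_of_le_right (le_inf (h.syl j).1 (h.T_norm_B j))
      · exact inf_le_left.trans (le_sup_of_le_left le_sup_left)

/-- **(E)**: no 2-group `≠ 1` is normalised by all `Y_l` -/
theorem nonloc (hE : NLoc (centralizer (ZJ : Set G) ⊔ ⨆ i, L i)) {U : Subgroup G} (hU : IsPGroup 2 U)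
    (hY : ∀ l, YQ Z l ≤ normalizer (U : Set G)) : U = ⊥ := by
  obtain ⟨i⟩ : Nonempty (Fin k) := ⟨⟨0, lt_of_lt_of_le (by norm_num) h.three⟩⟩
  exact hE U hU (sup_le ((h.D_le i).trans (hY i)) (iSup_le fun l => (h.L_le l).trans (hY l)))

end FrG

end Cfsg.Agent.Omega.EK3.QG
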