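import Cfsg.Agent.Omega.EK3.Q.StarI
import Cfsg.Agent.Omega.EK3.QG.LocQ
import Cfsg.Agent.Omega.EK3.QG.Facts

/-!
# (E), `k ≥ 3`, `q ≥ 4` (bb #22703, #23133, #23990): the output of STAR over the frame `FrG`

`OutQ` : `i ≠ j`, an elementary abelian `F ≤ O₂(D)` which centralises `N_i`, moves `N_j`, is exact on every `M` between `N_j` and
`E_ij`, and is low: `F ≤ O₂(C_{Y_j}(W_i))`.

Port of `EK3/Q/StarI.lean` to the frame `FrG` over `MulG`.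
-/

set_option autoImplicit false
set_option linter.unusedSectionVars false

namespace Cfsg.Agent.Omega.EK3.QG

open Subgroup Cfsg Cfsg.Agent.ZN.ChoiceBase
open Cfsg.Agent.ZN (zc zl o2)
open Cfsg.Agent.Omega.NO3S.EThree
open Cfsg.Agent.Omega.NO3S.EThree.Frame
open Cfsg.Agent.Omega.NO3S.EThree.ExactA (eab_mono eab_iff)
open Cfsg.Agent.Omega.Node.MultiOf
open Cfsg.Agent.Omega.EK3.StarE (EE)
open Cfsg.Agent.Omega.NoFF.Basic (V)

open Cfsg.Agent.Omega.Node.MulG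
open Cfsg.Agent.Omega.EK3.Q

universe u

variable {G : Type u} [Group G] {k : ℕ}

namespace FrG

variable [Finite G] {S : Sylow 2 G} {P K B ZJ : Subgroup G} {L W Z C : Fin k → Subgroup G} {q : ℕ}
  (h : FrG S P K B ZJ L W Z C q)
include h

theorem EE_le_O (i j : Fin k) : EE ZJ (YQ Z i ⊔ YQ Z j) ≤ o2 (centralizer (ZJ : Set G)) :=
  (EE_le_EQ ZJ Z i j).trans (h.EQ_le_O i j)

theorem EE_le_B (i j : Fin k) : EE ZJ (YQ Z i ⊔ YQ Z j) ≤ B := (h.EE_le_O i j).trans h.O_le_B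

theorem W_le_NQ' (j : Fin k) : W j ≤ NQ Z j := Loc.W_le_N h.mul.bg j

theorem WQ_le_EE' (i j : Fin k) : WQ Z W i j ≤ EE ZJ (YQ Z i ⊔ YQ Z j) :=
  WQ_le_EE (h.mul.bg.fr.Z_le i) (h.W_le_NQ' i) le_rfl

theorem NQ_le_EE' (i j : Fin k) : NQ Z j ≤ EE ZJ (YQ Z i ⊔ YQ Z j) :=
  NQ_le_EE (h.mul.bg.fr.Z_le j) le_sup_right

/-- **STAR for `q ≥ 4`.** -/
theorem exists_out {L' : Fin k → Subgroup G}
    (hF : StarE.Fr (o2 (centralizer (ZJ : Set G))) (centralizer (ZJ : Set G)) ZJ (YQ Z) (NQ Z) L')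
    (hO : o2 (centralizer (ZJ : Set G)) ≠ ⊥)
    (hLC : ∀ i j, i ≠ j → L' i ≤ normalizer ((YQ Z j ⊓ centralizer (W i : Set G) : Subgroup G) : Set G))
    (hLZ : ∀ i j, i ≠ j → L' i ≤ centralizer (Z j : Set G)) :
    ∃ i j F, OutQ ZJ W Z i j F := by
  obtain ⟨i, j, F₁, F, x, o⟩ := hF.star hO
  refine ⟨i, j, F, ⟨o.ne, o.eab, o.leO, o.le_centi, o.mov, ?_, o.le_cent hF, o.le_sup hF,
    fun M h1 h2 => o.exact hF h1 h2, fun M A h1 h2 h3 => o.no_sub hF h1 h2 h3⟩⟩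
  exact o.low hF (V := W i) (Zp := Z j) (MinSimple.VModule.o2_isPGroup _) (h.W_le_NQ' i) (hLC i j o.ne)
    ((hLZ i j o.ne).trans (centralizer_le_normalizer _)) (Q.Z_le_NQ Z j) (h.stab j).le

end FrG

end Cfsg.Agent.Omega.EK3.QG
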