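import Cfsg.Agent.Omega.EK3.QG.Par
import Cfsg.Agent.Omega.KL.QF.KInX
import Cfsg.Agent.Omega.Node.MulXTwo
import Cfsg.Agent.Omega.EK3.Q.Tree

/-!
# (E), `k ≥ 3`, `q ≥ 4`, over the case (L) of GammaFF: the frame `FrG` from `MulX.MulL`

* `uniW` : an FF-block over `B` with module in `V_P` has module `W i` and centralises `ZJ ⊓ C i` (`q > 2`);
* `blk_of` : the field `FrG.blk` from `NoW` (helper593 / `KInX.NoW`);
* `frG_of` : `FrG` from `MulL`, the weak (TI) and `NoW`;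
* `nloc` : `NLoc (KX ..) → NLoc (C(ZJ) ⊔ ⨆ L i)`;
* `TiWX K`, `NoWX K` : the sockets.
-/

set_option autoImplicit false
set_option linter.unusedSectionVars false

namespace Cfsg.Agent.Omega.EK3.QG

open Subgroup Cfsg Cfsg.Agent.ZN.ChoiceBase
open Cfsg.Agent.ZN (jj zj bau zc zl o2)
open Cfsg.Agent.ZN.ChoiceSit (Syl)
open Cfsg.Agent.Omega.OM
open Cfsg.Agent.Omega.Frame (Cls)
open Cfsg.Agent.Omega.NO3S.Level (nxt)
open Cfsg.Agent.Omega.OM.UniPlus (NB)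
open Cfsg.Agent.Omega.Node.MultiOf Cfsg.Agent.Omega.Node.MulG Cfsg.Agent.Omega.Node.MulX
open Cfsg.Agent.Omega.EK3.Q (YQ CQ NQ TY mem_YQ)
open Cfsg.Agent.MinSimple.MinParabolic (IsMinPar)
open Cfsg.Agent.Omega.KL.QF.KInX (NoW)

universe u

section

variable {G : Type u} [Group G] [Finite G] {S : Sylow 2 G} {P B ZJ : Subgroup G} {k : ℕ}
  {L W Z C A : Fin k → Subgroup G} {q : ℕ}

/-- **UNI+ over `MulL`**, `q > 2`: an FF-block over `B` with module in `V_P`. -/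
theorem uniW (h : MulL S P B ZJ L W Z C A q) (hq : 2 < q) {L' V' : Subgroup G}
    (hb : FBX B (zl (S : Subgroup G) P) L' V') :
    ∃ i, V' = W i ∧ NB B L' V' (Z i) q ∧ ∀ l, l ≠ i → L' ≤ centralizer (Z l : Set G) := by
  obtain ⟨Z', -, i, rfl, hN, hV, hc, -⟩ := h.uni hb
  refine ⟨i, NO3S.EMany.FourDQ.V_eq h.bg hq hN hV (fun z hz hzC => (hc z hz).1 hzC), hN, fun l hl x hx => ?_⟩
  refine mem_centralizer_iff.2 fun z hz => ?_
  exact ((hc z (h.bg.fr.Z_le l hz)).1 ((h.bg.fr.blk l).ZV.trans (h.bg.fr.WjC i l (Ne.symm hl)) hz) x hx).symm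

/-- a block over `B` with module in `V_P` which centralises all `Z l`, `l ≠ j`, has module `W j` -/
theorem uniW_eq (h : MulL S P B ZJ L W Z C A q) (hq : 2 < q) {L' V' : Subgroup G}
    (hb : FBX B (zl (S : Subgroup G) P) L' V') {j : Fin k} (hL : L' ≤ YQ Z j) : V' = W j := by
  obtain ⟨i, rfl, hN, -⟩ := uniW h hq hb
  by_contra hne
  have hij : i ≠ j := fun e => hne (by rw [e])
  obtain ⟨x, hx, hmv, -⟩ := hN.toFB.exists_mv
  apply hmv
  rw [← mem_normalizer_iff_cj]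
  refine centralizer_le_normalizer _ ?_
  exact mem_centralizer_iff.2 fun z hz => (mem_YQ.1 (hL hx) i hij z hz).symm

/-- **The field `FrG.blk`** from `NoW`. -/
theorem blk_of (h : MulL S P B ZJ L W Z C A q) (hq : 2 < q) (hw : ∀ j, NoW S P Z j) (j : Fin k) (R : Subgroup G)
    (hRY : R ≤ YQ Z j) (hR : IsMinPar (TY S Z j) R) (hT : Syl (TY S Z j) R)
    (hc : R ⊓ centralizer (o2 R : Set G) ≤ o2 R) (hK : ¬ nxt (S : Subgroup G) (o2 P) ≤ o2 R)
    (hZ : ¬ R ≤ centralizer (zc (TY S Z j) : Set G)) :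
    ∃ L' : Subgroup G, FBl B L' (W j) ∧ L' ≤ R ∧ R ≤ L' ⊔ TY S Z j := by
  have hB : B ≤ TY S Z j := by
    rw [h.eB]
    refine le_inf inf_le_left (le_iInf fun l => inf_le_right.trans (centralizer_le ?_))
    exact_mod_cast h.bg.fr.Z_le l
  obtain ⟨L', V', h1, h2, h3⟩ := Node.MulXTwo.exists_fbx h hT hB hR hc (hw j R hR hRY hc hZ) hK hZ
  obtain rfl := uniW_eq h hq h2 (h1.trans hRY)
  exact ⟨L', h2.1, h1, h3.trans (sup_comm _ _).le⟩

/-- **The frame `FrG`** from `MulL`, the weak (TI) and `NoW`. -/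
theorem frG_of (h : MulL S P B ZJ L W Z C A q) (hk : 3 ≤ k) (hq : 4 ≤ q)
    (hti : ∀ j, ∀ m ∈ Z j, m ≠ 1 → YQ Z j ⊓ centralizer ({m} : Set G) ≤ normalizer (Z j : Set G))
    (hw : ∀ j, NoW S P Z j) : FrG S P (nxt (S : Subgroup G) (o2 P)) B ZJ L W Z C q where
  mul := h.toG
  three := hk
  four := hq
  ti := hti
  blk := blk_of h (by omega) hw

/-- **`KX ≤ ⟨C_G(Z_J), L_i⟩`** over `FrG`, `MulL`. -/
theorem KX_le (h : MulL S P B ZJ L W Z C A q) {K : Subgroup G} (hF : FrG S P K B ZJ L W Z C q) :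
    KX B ZJ (zl (S : Subgroup G) P) ≤ centralizer (ZJ : Set G) ⊔ ⨆ i, L i := by
  have hq : 2 < q := by have := hF.four; omega
  refine sup_le le_sup_left (iSup_le ?_)
  rintro ⟨⟨L', V'⟩, hb⟩
  obtain ⟨i, rfl, -, hc⟩ := uniW h hq hb
  have hY : L' ≤ YQ Z i := le_iInf fun l => hc l l.2
  refine (hF.blk_both hb.1 hY).1.trans (sup_le (le_sup_of_le_right (le_iSup L i)) ?_)
  exact le_sup_of_le_left inf_le_left

/-- **the nonlocality** -/
theorem nloc (h : MulL S P B ZJ L W Z C A q) {K : Subgroup G} (hF : FrG S P K B ZJ L W Z C q)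
    (hN : NLoc (KX B ZJ (zl (S : Subgroup G) P))) : NLoc (centralizer (ZJ : Set G) ⊔ ⨆ i, L i) :=
  fun U hU hn => hN U hU ((KX_le h hF).trans hn)

end

section sockets

variable (K : Cls.{u})

/-- **socket (weak TI)**, `k ≥ 3`, `q ≥ 4`, over `MulL`: `C_G(⟨m⟩ × Λ_j) ≤ N_G(Z_j)`. -/
def TiWX : Prop :=
  ∀ (G : Type u) [Group G] [Finite G], K G → ∀ (S : Sylow 2 G) (P B ZJ : Subgroup G) (k : ℕ)
    (L W Z C A : Fin k → Subgroup G) (q : ℕ), 3 ≤ k → 4 ≤ q → MulL S P B ZJ L W Z C A q →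
      NLoc (KX B ZJ (zl (S : Subgroup G) P)) →
        ∀ j, ∀ m ∈ Z j, m ≠ 1 → YQ Z j ⊓ centralizer ({m} : Set G) ≤ normalizer (Z j : Set G)

/-- **socket (NoW)**, `k ≥ 3`, `q ≥ 4`, over `MulL`: no weird `Y ≤ C_G(Z_l : l ≠ j)` over `C_S(Z_l : l ≠ j)`. -/
def NoWX : Prop :=
  ∀ (G : Type u) [Group G] [Finite G], K G → ∀ (S : Sylow 2 G) (P B ZJ : Subgroup G) (k : ℕ)
    (L W Z C A : Fin k → Subgroup G) (q : ℕ), 3 ≤ k → 4 ≤ q → MulL S P B ZJ L W Z C A q →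
      NLoc (KX B ZJ (zl (S : Subgroup G) P)) → ∀ j, NoW S P Z j

end sockets

end Cfsg.Agent.Omega.EK3.QG
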