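import Cfsg.Agent.Omega.EK3.QG.OfMulX
import Cfsg.Agent.Omega.EK3.QG.End

/-!
# Row (8) over the case (L) of GammaFF: `EX K (3 ≤ k ∧ 4 ≤ q)` over `MulL`

* `false_mulX` : (E), `k ≥ 3`, `q ≥ 4`, over `MulL`, from the weak (TI) and `NoW`;
* **`eX_of : MLK → Ext → TiWX K → NoWX K → EX K (3 ≤ k ∧ 4 ≤ q)`**.
-/

set_option autoImplicit false
set_option linter.unusedSectionVars false

namespace Cfsg.Agent.Omega.EK3.QG

open Subgroup Cfsg Cfsg.Agent.ZN.ChoiceBase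
open Cfsg.Agent.ZN (jj zj bau zc zl o2)
open Cfsg.Agent.Omega.Frame (Cls)
open Cfsg.Agent.Omega.Node.MultiOf Cfsg.Agent.Omega.Node.MulX
open Cfsg.Agent.Omega.EK3.Q (YQ)
open Cfsg.Agent.Omega.KL.QF.KInX (NoW)

universe u

/-- **(E), `k ≥ 3`, `q ≥ 4`, over `MulL`**, from the weak (TI) and `NoW`. -/
theorem false_mulX (hML : ML.Final.MLK.{u, u}) (hE : ML.Ex.Two.Ext.{u, u}) {G : Type u} [Group G] [Finite G]
    {S : Sylow 2 G} {P B ZJ : Subgroup G} {k : ℕ} {L W Z C A : Fin k → Subgroup G} {q : ℕ}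
    (h : MulL S P B ZJ L W Z C A q) (hk : 3 ≤ k) (hq : 4 ≤ q)
    (hN : NLoc (KX B ZJ (zl (S : Subgroup G) P)))
    (hti : ∀ j, ∀ m ∈ Z j, m ≠ 1 → YQ Z j ⊓ centralizer ({m} : Set G) ≤ normalizer (Z j : Set G))
    (hw : ∀ j, NoW S P Z j) : False := by
  have hF := frG_of h hk hq hti hw
  exact hF.false hML hE (Q.Tree.kgroup_YQ h.bg) (nloc h hF hN)

/-- **Row (8) over `MulL`, from the sockets.** -/
theorem eX_of {K : Cls.{u}} (hML : ML.Final.MLK.{u, u}) (hE : ML.Ex.Two.Ext.{u, u}) (hT : TiWX K) (hW : NoWX K) :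
    EX K fun k q => 3 ≤ k ∧ 4 ≤ q := by
  rintro G _ _ hG S P B ZJ k L W Z C A q - ⟨hk, hq⟩ hM hN
  exact (false_mulX hML hE hM hk hq hN (hT G hG S P B ZJ k L W Z C A q hk hq hM hN)
    (hW G hG S P B ZJ k L W Z C A q hk hq hM hN)).elim

end Cfsg.Agent.Omega.EK3.QG
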