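import Cfsg.Agent.Omega.EK3.QG.End
import Cfsg.Agent.Omega.NO3S.EMany.FourDQ
import Cfsg.Agent.Omega.Node.MulXTwo

/-!
# Row (8) over `MulX.MulL` (the case (L) of GammaFF): `EX K (3 ≤ k ∧ 4 ≤ q)` (bb #25392, #25647)

* `frG_of` : the frame `FrG` over `MulL`, from the weak (TI) and `NoW` (no weird minimal parabolic over `T_j` in `Y_j` which moves
  `Ω₁(Z(T_j))`);
* `KX_le` : `KX ≤ ⟨C_G(Z_J), L_1, .., L_k⟩`;
* sockets `TiX K`, `NoWX K`;  **`eX_of : MLK → Ext → TiX K → NoWX K → EX K (3 ≤ k ∧ 4 ≤ q)`**.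
-/

set_option autoImplicit false
set_option linter.unusedSectionVars false

namespace Cfsg.Agent.Omega.EK3.QG.RowX

open Subgroup Cfsg Cfsg.Agent.ZN.ChoiceBase
open Cfsg.Agent.ZN.ChoiceSit (Syl)
open Cfsg.Agent.ZN (jj zj bau zc zl o2)
open Cfsg.Agent.MinSimple.MinParabolic (IsMinPar)
open Cfsg.Agent.Omega.NO3S.Level (lev nxt Lev)
open Cfsg.Agent.Omega.NO3S.EThree.Frame (Bg Fg)
open Cfsg.Agent.Omega.Frame (Cls)
open Cfsg.Agent.Omega.OM Cfsg.Agent.Omega.OM.Uni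
open Cfsg.Agent.Omega.Node.MultiOf Cfsg.Agent.Omega.Node.MulG Cfsg.Agent.Omega.Node.MulX
open Cfsg.Agent.Omega.Node.MulXTwo (exists_fbx)
open Cfsg.Agent.Omega.EK3.Q (YQ CQ NQ TY mem_YQ)
open Cfsg.Agent.Omega.ML.Final (MLK)

universe u

section frame

variable {G : Type u} [Group G] [Finite G] {S : Sylow 2 G} {P B ZJ : Subgroup G} {k : ℕ}
  {L W Z C A : Fin k → Subgroup G} {q : ℕ}

/-- a block with module in `V_P` : its index -/
theorem idx (h : MulL S P B ZJ L W Z C A q) (hq : 2 < q) {L' V' : Subgroup G}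
    (hX : FBX B (zl (S : Subgroup G) P) L' V') :
    ∃ i, V' = W i ∧ L' ≤ YQ Z i ∧ ¬ L' ≤ centralizer (Z i : Set G) := by
  obtain ⟨Z', hF, i, rfl, hN, hV, hcen, -⟩ := h.uni hX
  refine ⟨i, ?_, fun l hl => mem_YQ.2 fun j hj z hz => ?_, fun hc => ?_⟩
  · exact NO3S.EMany.FourDQ.V_eq h.bg hq hN hV fun z hz hzC => (hcen z hz).1 hzC
  · exact (hcen z (h.bg.fr.Z_le j hz)).1 ((h.bg.fr.blk j).ZV.trans (h.bg.fr.WjC i j hj.symm) hz) l hl
  · obtain ⟨x, hx, hne, -⟩ := hF.exists_mv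
    exact hne (mem_normalizer_iff_cj.1 (centralizer_le_normalizer _ (hc hx)))

theorem B_le_TY (h : MulL S P B ZJ L W Z C A q) (j : Fin k) : B ≤ TY S Z j :=
  le_inf h.bg.BS ((h.bg.eqB.le.trans inf_le_right).trans fun _ hx => mem_YQ.2 fun l _ z hz =>
    (mem_centralizer_iff.1 hx z (h.bg.fr.Z_le l hz)).symm)

/-- **The frame `FrG` over `MulL`.** -/
theorem frG_of (h : MulL S P B ZJ L W Z C A q) (h3 : 3 ≤ k) (h4 : 4 ≤ q)
    (ti : ∀ j, ∀ m ∈ Z j, m ≠ 1 → YQ Z j ⊓ centralizer ({m} : Set G) ≤ normalizer (Z j : Set G))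
    (hW : ∀ j, ∀ R : Subgroup G, IsMinPar (TY S Z j) R → R ≤ YQ Z j → R ⊓ centralizer (o2 R : Set G) ≤ o2 R →
      ¬ R ≤ centralizer (zc (TY S Z j) : Set G) → o2 P ≤ o2 R) :
    FrG S P (nxt (S : Subgroup G) (o2 P)) B ZJ L W Z C q where
  mul := h.toG
  three := h3
  four := h4
  ti := ti
  blk := by
    intro j R hRY hR hT hc hK hZ
    obtain ⟨L', V', h1, hX, h2⟩ := exists_fbx h hT (B_le_TY h j) hR hc (hW j R hR hRY hc hZ) hK hZ
    obtain ⟨i, rfl, -, hi⟩ := idx h (by omega) hX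
    have hij : i = j := by
      by_contra hij
      exact hi ((h1.trans hRY).trans (Q.YQ_cent hij))
    subst hij
    exact ⟨L', hX.1, h1, h2.trans (sup_comm _ _).le⟩

/-- **`KX ≤ ⟨C_G(Z_J), L_i⟩`** -/
theorem KX_le (h : MulL S P B ZJ L W Z C A q) {K : Subgroup G} (hF : FrG S P K B ZJ L W Z C q) :
    KX B ZJ (zl (S : Subgroup G) P) ≤ centralizer (ZJ : Set G) ⊔ ⨆ i, L i := by
  refine sup_le le_sup_left (iSup_le ?_)
  rintro ⟨⟨L', V'⟩, hb⟩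
  obtain ⟨i, hi, hY, -⟩ := idx h hF.two_lt hb
  have hb1 : FBl B L' (W i) := by
    have h1 := hb.1
    rwa [hi] at h1
  exact (hF.blk_both hb1 hY).1.trans (sup_le (le_sup_of_le_right (le_iSup L i))
    (inf_le_left.trans le_sup_left))

/-- a subgroup of the centraliser of `x ≠ 1` is a K-group -/
theorem kgroup_of (h : Bg S P B ZJ L W Z C q) {x : G} (hx : x ≠ 1) {X : Subgroup G}
    (hX : ∀ g ∈ X, g * x = x * g) : IsKGroup X := by
  have hG := h.hyp.ctx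
  refine hG.kproper _ fun e => ?_
  have hs := hG.simple
  have h1 : x ∈ center G := by
    rw [mem_center_iff]
    intro g
    exact hX g (by rw [e]; exact mem_top g)
  rcases hs.eq_bot_or_eq_top_of_normal (center G) inferInstance with h2 | h2
  · rw [h2, mem_bot] at h1
    exact hx h1
  · apply hG.nonComm
    refine ⟨⟨fun a b => ?_⟩⟩
    have : a ∈ center G := by rw [h2]; exact mem_top a
    exact (mem_center_iff.mp this b).symm

theorem kgroup_YQ (h : Bg S P B ZJ L W Z C q) (j : Fin k) : IsKGroup (YQ Z j) := by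
  obtain ⟨l, hl⟩ := h.two j
  obtain ⟨x, hx⟩ := Subgroup.ne_bot_iff_exists_ne_one.1 (h.Z_ne l)
  exact kgroup_of h (x := x) (fun e => hx (Subtype.ext e)) fun g hg => mem_YQ.1 hg l hl x x.2

/-- **(E), case (L), `k ≥ 3`, `q ≥ 4`.** -/
theorem false_X (hML : MLK.{u, u}) (hX : ML.Ex.Two.Ext.{u, u}) (h : MulL S P B ZJ L W Z C A q) (h3 : 3 ≤ k)
    (h4 : 4 ≤ q) (hn : NLoc (KX B ZJ (zl (S : Subgroup G) P)))
    (ti : ∀ j, ∀ m ∈ Z j, m ≠ 1 → YQ Z j ⊓ centralizer ({m} : Set G) ≤ normalizer (Z j : Set G))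
    (hW : ∀ j, ∀ R : Subgroup G, IsMinPar (TY S Z j) R → R ≤ YQ Z j → R ⊓ centralizer (o2 R : Set G) ≤ o2 R →
      ¬ R ≤ centralizer (zc (TY S Z j) : Set G) → o2 P ≤ o2 R) : False := by
  have hF := frG_of h h3 h4 ti hW
  exact hF.false hML hX (kgroup_YQ h.bg) (hn.mono (KX_le h hF))

end frame

/-! ### Sockets -/

section sockets

variable (K : Cls.{u})

/-- **socket (TI)**, `k ≥ 3`, `q ≥ 4`, over `MulL`: `C_G(⟨m⟩ × Λ_j) ≤ N_G(Z_j)`. -/
def TiX : Prop :=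
  ∀ (G : Type u) [Group G] [Finite G], K G → ∀ (S : Sylow 2 G) (P B ZJ : Subgroup G) (k : ℕ)
    (L W Z C A : Fin k → Subgroup G) (q : ℕ), 3 ≤ k → 4 ≤ q → MulL S P B ZJ L W Z C A q →
      NLoc (KX B ZJ (zl (S : Subgroup G) P)) →
        ∀ j, ∀ m ∈ Z j, m ≠ 1 → YQ Z j ⊓ centralizer ({m} : Set G) ≤ normalizer (Z j : Set G)

/-- **socket (NoW)**, `k ≥ 3`, `q ≥ 4`, over `MulL`: no weird `R ≤ C_G(Z_l : l ≠ j)`. -/
def NoWX : Prop :=
  ∀ (G : Type u) [Group G] [Finite G], K G → ∀ (S : Sylow 2 G) (P B ZJ : Subgroup G) (k : ℕ)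
    (L W Z C A : Fin k → Subgroup G) (q : ℕ), 3 ≤ k → 4 ≤ q → MulL S P B ZJ L W Z C A q →
      NLoc (KX B ZJ (zl (S : Subgroup G) P)) →
        ∀ j, ∀ R : Subgroup G, IsMinPar (TY S Z j) R → R ≤ YQ Z j → R ⊓ centralizer (o2 R : Set G) ≤ o2 R →
          ¬ R ≤ centralizer (zc (TY S Z j) : Set G) → o2 P ≤ o2 R

end sockets

variable {K : Cls.{u}}

/-- **Row (8) over `MulL`, from the sockets.** -/
theorem eX_of (hML : MLK.{u, u}) (hX : ML.Ex.Two.Ext.{u, u}) (hT : TiX K) (hW : NoWX K) :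
    EX K fun k q => 3 ≤ k ∧ 4 ≤ q := by
  rintro G _ _ hG S P B ZJ k L W Z C A q - ⟨h3, h4⟩ hM hN
  exact (false_X hML hX hM h3 h4 hN (hT G hG S P B ZJ k L W Z C A q h3 h4 hM hN)
    (hW G hG S P B ZJ k L W Z C A q h3 h4 hM hN)).elim

end Cfsg.Agent.Omega.EK3.QG.RowX
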