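import Cfsg.Agent.Omega.EK3.QG.OfMulX
import Cfsg.Agent.Omega.CaseLQ.NoWEnd
import Cfsg.Agent.Omega.CaseLQ.Core

/-!
# The socket `NoWX K` of row (8) over the case (L) of GammaFF (#26569, #26790 of helper681; `NoWEnd` of helper335)

* `noW` : `KInX.NoW S P Z j` over `MulL`, `q ≥ 3`, every `j`;
* **`noWX K : NoWX K`**.
-/

set_option autoImplicit false

namespace Cfsg.Agent.Omega.EK3.QG.SockX

open Subgroup Cfsg
open Cfsg.Agent.Omega.Frame (Cls)
open Cfsg.Agent.Omega.Node.MulX (MulL)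
open Cfsg.Agent.Omega.KL.QF.KInX (NoW)

universe u

/-- no weird `R ≤ C_G(Z_l : l ≠ j)`, `q ≥ 3`, over `MulL` -/
theorem noW {G : Type u} [Group G] [Finite G] {S : Sylow 2 G} {P B ZJ : Subgroup G} {k : ℕ}
    {L W Z C A : Fin k → Subgroup G} {q : ℕ} (h : MulL S P B ZJ L W Z C A q) (hq : 3 ≤ q) (j : Fin k) :
    NoW S P Z j :=
  CaseLQ.NoWEnd.noW_of h j fun BT TS TZ DC D0 hT YD syl min c2 nQ ΛC ΛT zT mvZ cnt =>
    CaseLQ.noW_core' h hq BT TS TZ (DC.trans (iSup_le fun l => h.bg.fr.Z_le l)) D0 DC hT YD syl min c2 nQ ΛC ΛT zT mvZ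
      cnt

/-- **The socket `NoWX K`.** -/
theorem noWX (K : Cls.{u}) : NoWX K := by
  intro G _ _ _ S P B ZJ k L W Z C A q _ hq h _ j
  exact noW h (by omega) j

end Cfsg.Agent.Omega.EK3.QG.SockX
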