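import Cfsg.Agent.Omega.EK3.QG.TwoU

/-!
# (E), `k ≥ 3`, `q ≥ 4`, over `MulG`: the stabiliser of a vector of `W i` in `Y_j`, from the weak (TI) (bb #25647)

* `stabD` : `c ∈ D`, `c w c⁻¹ ∈ W i`, `w ∈ W i - Z i` ⟹ `c ∈ N(W i)`;
* **`stabW`** : `i ≠ j`, `c ∈ Y_j`, `[c, w] ∈ Z i`, `w ∈ W i - Z i` ⟹ `c ∈ N(W i)`.
-/

set_option autoImplicit false
set_option linter.unusedSectionVars false
set_option linter.unusedVariables false

namespace Cfsg.Agent.Omega.EK3.QG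

open Subgroup Cfsg Cfsg.Agent.ZN.ChoiceBase
open Cfsg.Agent.ZN (jj zj bau zc zl o2)
open Cfsg.Agent.Omega
open Cfsg.Agent.Omega.OM
open Cfsg.Agent.Omega.NO3S.EThree.Frame
open Cfsg.Agent.Omega.NO3S.EMany
open Cfsg.Agent.Omega.Node.MultiOf
open Cfsg.Agent.Omega.Node.MulG
open Cfsg.Agent.Omega.EK3.Q (YQ CQ NQ TY mem_YQ mem_CQ CQ_comm YQ_le_left YQ_le_right YQ_cent CQ_cent YQ_eq_cent CQ_eq_cent)
open Cfsg.Agent.MinSimple.MinParabolic (IsMinPar)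
open scoped Pointwise

universe u

variable {G : Type u} [Group G] {k : ℕ}

namespace FrG

variable [Finite G] {S : Sylow 2 G} {P K B ZJ : Subgroup G} {L W Z C : Fin k → Subgroup G} {q : ℕ}
  (h : FrG S P K B ZJ L W Z C q)
include h

/-- `c ∈ D`, `c w c⁻¹ ∈ W i`, `w ∈ W i - Z i` ⟹ `c ∈ N(W i)` -/
theorem stabD {i : Fin k} {w : G} (hw : w ∈ W i) (hwZ : w ∉ Z i) {c : G} (hc : c ∈ centralizer (ZJ : Set G))
    (hcw : c * w * c⁻¹ ∈ W i) : c ∈ normalizer (W i : Set G) := by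
  obtain ⟨z, hz, hz1⟩ : ∃ z ∈ Z i, z ≠ 1 := by
    by_contra hcon
    push Not at hcon
    exact h.bg.Z_ne i ((eq_bot_iff_forall _).2 hcon)
  have hw1 : w ≠ 1 := fun e => hwZ (e ▸ one_mem _)
  have hcw1 : c * w * c⁻¹ ≠ 1 := fun e => hw1 (by
    have h1 := congrArg (fun t => c⁻¹ * t * c) e
    simpa [mul_assoc] using h1)
  obtain ⟨l, hl, e1⟩ := h.trL hw hw1 hz hz1
  obtain ⟨l', hl', e2⟩ := h.trL hcw hcw1 hz hz1
  set g : G := l'⁻¹ * c * l with hg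
  have hgC : g ∈ YQ Z i := mul_mem (mul_mem (inv_mem (h.L_le i hl')) (h.D_le i hc)) (h.L_le i hl)
  have hgz : g * z * g⁻¹ = z := by
    have e : g * z * g⁻¹ = l'⁻¹ * (c * (l * z * l⁻¹) * c⁻¹) * l' := by rw [hg]; group
    rw [e, e1, ← e2]
    group
  have hgN : g ∈ normalizer (Z i : Set G) := by
    refine h.cent_m hz hz1 (mem_inf.2 ⟨hgC, mem_centralizer_singleton_iff.2 ?_⟩)
    exact mul_inv_eq_iff_eq_mul.1 hgz
  have hcj : cj c (cj l (Z i)) = cj l' (Z i) := by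
    have e : c * l = l' * g := by rw [hg]; group
    rw [cj_cj, e, ← cj_cj, mem_normalizer_iff_cj.1 hgN]
  have hne : cj l (Z i) ≠ Z i := by
    intro e
    apply hwZ
    rw [← e, ← e1]
    exact ⟨z, hz, rfl⟩
  have hsup : Z i ⊔ cj l (Z i) = W i := AltQ.sup_eq (h.nb i) hl hne
  have hcZ : cj c (Z i) = Z i :=
    mem_normalizer_iff_cj.1 (centralizer_le_normalizer _ (centralizer_le (h.bg.fr.Z_le i) hc))
  have hle : cj c (W i) ≤ W i := by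
    conv_lhs => rw [← hsup]
    have e : cj c (Z i ⊔ cj l (Z i)) = cj c (Z i) ⊔ cj c (cj l (Z i)) := Subgroup.map_sup _ _ _
    rw [e, hcZ, hcj]
    refine sup_le (h.bg.fr.blk i).ZV ?_
    rintro _ ⟨x, hx, rfl⟩
    exact (h.bg.fr.blk i).nV l' hl' x ((h.bg.fr.blk i).ZV hx)
  rw [mem_normalizer_iff_cj]
  exact Subgroup.eq_of_le_of_card_ge hle (by rw [card_cj])

/-- `[c, w] ∈ Z i`, `w ∈ W i - Z i`, `c ∈ Y_j`, `i ≠ j` ⟹ `c ∈ N(W i)` -/
theorem stabW {i j : Fin k} (hij : i ≠ j) {w : G} (hw : w ∈ W i) (hwZ : w ∉ Z i) {c : G} (hc : c ∈ YQ Z j)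
    (hcw : c * w * c⁻¹ * w⁻¹ ∈ Z i) : c ∈ normalizer (W i : Set G) := by
  have hcomm : ∀ a ∈ YQ Z j, ∀ z ∈ Z i, a * z = z * a := fun a ha z hz => mem_YQ.1 ha i hij z hz
  let A : Subgroup G :=
    { carrier := {c | c ∈ YQ Z j ∧ c * w * c⁻¹ * w⁻¹ ∈ Z i}
      one_mem' := ⟨one_mem _, by simp⟩
      mul_mem' := by
        rintro a b ⟨ha, ha'⟩ ⟨hb, hb'⟩
        refine ⟨mul_mem ha hb, ?_⟩
        have e : a * b * w * (a * b)⁻¹ * w⁻¹ = a * (b * w * b⁻¹ * w⁻¹) * w * a⁻¹ * w⁻¹ := by group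
        rw [e, hcomm a ha _ hb']
        have e2 : b * w * b⁻¹ * w⁻¹ * a * w * a⁻¹ * w⁻¹ = (b * w * b⁻¹ * w⁻¹) * (a * w * a⁻¹ * w⁻¹) := by group
        rw [e2]
        exact mul_mem hb' ha'
      inv_mem' := by
        rintro a ⟨ha, ha'⟩
        refine ⟨inv_mem ha, ?_⟩
        have e : a⁻¹ * w * a⁻¹⁻¹ * w⁻¹ = a⁻¹ * (a * w * a⁻¹ * w⁻¹)⁻¹ * a := by group
        rw [e, hcomm a⁻¹ (inv_mem ha) _ (inv_mem ha'), inv_mul_cancel_right]
        exact inv_mem ha' }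
  have hAY : A ≤ YQ Z j := fun a ha => ha.1
  have hAc : ∀ a ∈ A, a * w * a⁻¹ * w⁻¹ ∈ Z i := fun a ha => ha.2
  have hTA : TY S Z j ≤ A := fun t ht => ⟨ht.2, h.TY_com hij ht hw⟩
  have key : A ≤ normalizer (W i : Set G) := by
    refine MinSimple.MinParabolic.le_of_forall hTA ?_ fun R hR hRA => ?_
    · rintro n ⟨hn, hnT⟩
      exact mem_normalizer_iff_cj.2 (h.fixB (h.norm_T_le j (mem_inf.2 ⟨hAY hn, hnT⟩)) (hAY hn) i).1
    · by_cases hZ : R ≤ normalizer (Z j : Set G)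
      · intro r hr
        have hrY := hAY (hRA hr)
        have hrw := hAc r (hRA hr)
        obtain ⟨d, hd, n, hn, hnB, rfl⟩ := h.frat hrY (h.norm_ZJ' hrY (hZ hr))
        have hnW : n ∈ normalizer (W i : Set G) := mem_normalizer_iff_cj.2 (h.fixB hnB hn i).1
        have hnZ : n ∈ normalizer (Z i : Set G) := mem_normalizer_iff_cj.2 (h.fixB hnB hn i).2
        refine mul_mem (h.stabD (w := n * w * n⁻¹) ((mem_normalizer_iff.1 hnW w).1 hw)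
          (fun e => hwZ ((mem_normalizer_iff.1 hnZ w).2 e)) hd ?_) hnW
        have e : d * (n * w * n⁻¹) * d⁻¹ = (d * n * w * (d * n)⁻¹ * w⁻¹) * w := by group
        rw [e]
        exact mul_mem ((h.bg.fr.blk i).ZV hrw) hw
      · refine ML.MinFrame.le_normalizer_of fun r hr x hx => ?_
        have e : r * x * r⁻¹ = (r * x * r⁻¹ * x⁻¹) * x := by group
        rw [e]
        exact mul_mem ((h.bg.fr.blk i).ZV (h.hU hij hR (hRA.trans hAY) hZ r hr x hx)) hx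
  exact key ⟨hc, hcw⟩

end FrG

end Cfsg.Agent.Omega.EK3.QG
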