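import Cfsg.Agent.Omega.EK3.QG.Par
import Cfsg.Agent.Omega.EK3.Q.TwoU
import Cfsg.Agent.Omega.EK3.Two
import Cfsg.Agent.Omega.OM.Lev.HUMulG

/-!
# (E), `k ≥ 3`, `q ≥ 4`: the minimal parabolics over `T_j` on `Y = V_i Z^j / Z^j` and `X = Z_J / Z^j` (bb #24417)

`Zs Z j = ⨆ l ≠ j, Z l`; `h : FrG ..`, `i ≠ j`:

* `comm_norm` : `R ∈ P(Y_j, T_j)`, `R ≤ N(B)` : `R` is trivial on `W i / Z i`;
* `norm_of_mv` : `R ≤ N(Z_j)` moving some `m ∈ Z_J` which is `T_j`-fixed mod `Z^j` is in `N(B)`;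
* `u1`, `u2`, `nX`, `nY`.
-/

set_option autoImplicit false
set_option linter.unusedSectionVars false
set_option linter.unusedVariables false

namespace Cfsg.Agent.Omega.EK3.QG

open Subgroup Cfsg Cfsg.Agent.ZN.ChoiceBase
open Cfsg.Agent.ZN (jj zj bau zc zl o2)
open Cfsg.Agent.ZN.ChoiceSit (Syl)
open Cfsg.Agent.Omega
open Cfsg.Agent.Omega.OM
open Cfsg.Agent.Omega.NO3S.EThree.Frame
open Cfsg.Agent.Omega.Node.MultiOf
open Cfsg.Agent.Omega.Node.MulG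
open Cfsg.Agent.Omega.EK3.Q (YQ CQ NQ TY mem_YQ mem_CQ CQ_comm YQ_le_left YQ_le_right YQ_cent CQ_cent YQ_eq_cent CQ_eq_cent centralizer_norm TrW mem_TrW cj_TrW_le)
open Cfsg.Agent.Omega.EK3.Two (Zs Z_le_Zs)
open Cfsg.Agent.MinSimple.MinParabolic (IsMinPar)
open scoped Pointwise

universe u

variable {G : Type u} [Group G] {k : ℕ}

namespace FrG

variable [Finite G] {S : Sylow 2 G} {P K B ZJ : Subgroup G} {L W Z C : Fin k → Subgroup G} {q : ℕ}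
  (h : FrG S P K B ZJ L W Z C q)
include h

theorem Zs_le_ZJ (j : Fin k) : Zs Z j ≤ ZJ := iSup_le fun l => h.bg.fr.Z_le l

omit h in
theorem YQ_Zs {j : Fin k} {c z : G} (hc : c ∈ YQ Z j) (hz : z ∈ Zs Z j) : c * z = z * c := by
  have h1 : c ∈ centralizer ((Zs Z j : Subgroup G) : Set G) := by
    rw [YQ_eq_cent] at hc
    exact hc
  exact (mem_centralizer_iff.1 h1 z hz).symm

theorem W_comm_Zs {i j : Fin k} {w z : G} (hw : w ∈ W i) (hz : z ∈ Zs Z j) : w * z = z * w :=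
  h.bg.fr.Vc (h.bg.fr.WV i hw) (h.bg.fr.ZJV (h.Zs_le_ZJ j hz))

/-- elements of `W i ⊔ Zs Z j` -/
theorem mem_WZ {i j : Fin k} {x : G} (hx : x ∈ W i ⊔ Zs Z j) : ∃ w ∈ W i, ∃ z ∈ Zs Z j, x = w * z :=
  SQ1.Bau.mem_sup_comm (fun _ ha _ hb => h.W_comm_Zs ha hb) hx

/-- triviality on `W i / Z i` and on `W i Z^j / Z^j` -/
theorem comm_sup {i j : Fin k} (hij : i ≠ j) {p w : G} (hp : p ∈ YQ Z j)
    (hpw : ∀ w ∈ W i, p * w * p⁻¹ * w⁻¹ ∈ Z i) (hw : w ∈ W i ⊔ Zs Z j) : p * w * p⁻¹ * w⁻¹ ∈ Zs Z j := by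
  obtain ⟨w, hw', z, hz, rfl⟩ := h.mem_WZ hw
  have e : p * (w * z) * p⁻¹ * (w * z)⁻¹ = p * w * (z * p⁻¹) * z⁻¹ * w⁻¹ := by group
  have h1 : z * p⁻¹ = p⁻¹ * z := by
    have := YQ_Zs (inv_mem hp) hz
    exact this.symm
  have e2 : p * w * (p⁻¹ * z) * z⁻¹ * w⁻¹ = p * w * p⁻¹ * w⁻¹ := by group
  rw [e, h1, e2]
  exact Z_le_Zs hij (hpw w hw')

/-- `R ∈ P(Y_j, T_j)`, `R ≤ N(B)` : `R` is trivial on `W i / Z i`. -/
theorem comm_norm {i j : Fin k} (hij : i ≠ j) {R : Subgroup G} (hR : IsMinPar (TY S Z j) R) (hRY : R ≤ YQ Z j)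
    (hRB : R ≤ normalizer (B : Set G)) : ∀ r ∈ R, ∀ w ∈ W i, r * w * r⁻¹ * w⁻¹ ∈ Z i := by
  have h1 : R ≤ TrW (W i) (Z i) := by
    refine (HU.gen_cj hR (h.syl_of hR.le hRY)).trans (iSup_le fun r => ?_)
    have h2 := h.fixB (hRB r.2) (hRY r.2) i
    refine (cj_mono (r : G) ?_).trans
      (cj_TrW_le (mem_normalizer_iff_cj.2 h2.1) (mem_normalizer_iff_cj.2 h2.2))
    exact fun t ht => ⟨fun z hz => mem_YQ.1 ht.2 i hij z hz, fun w hw => h.TY_com hij ht hw⟩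
  exact fun r hr => (h1 hr).2

/-- the elements of `Y_j` which fix `m` mod `Z^j` -/
theorem norm_of_mv {j : Fin k} {R : Subgroup G} (hR : IsMinPar (TY S Z j) R) (hRY : R ≤ YQ Z j)
    (hZ : R ≤ normalizer (Z j : Set G)) {m : G} (hm : m ∈ ZJ)
    (hT : ∀ t ∈ TY S Z j, t * m * t⁻¹ * m⁻¹ ∈ Zs Z j) (hmv : ∃ p ∈ R, p * m * p⁻¹ * m⁻¹ ∉ Zs Z j) :
    R ≤ normalizer (B : Set G) := by
  have h1 : TY S Z j ⊓ centralizer (Z j : Set G) = B := by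
    refine h.sylD.2.2 _ ?_ ((h.T_two j).to_le inf_le_left) (le_inf (h.B_le_T j) (h.B_le_D.trans
      (centralizer_le (h.bg.fr.Z_le j))))
    rw [← h.stab j]
    exact inf_le_inf_right _ (h.syl j).1
  rw [← h1]
  refine HU.norm_inf hR (h.syl_of hR.le hRY) (hZ.trans (centralizer_norm _)) fun hle => ?_
  obtain ⟨p, hp, hpm⟩ := hmv
  apply hpm
  have hTn : TY S Z j ≤ normalizer ((R ⊓ centralizer (Z j : Set G) : Subgroup G) : Set G) := fun t ht => by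
    rw [mem_normalizer_iff_cj, cj_inf, cj_eq_of_mem_normalizer (Subgroup.le_normalizer (hR.le ht)),
      cj_centralizer, cj_eq_of_mem_normalizer (hZ (hR.le ht))]
  have h2 : p ∈ TY S Z j ⊔ (R ⊓ centralizer (Z j : Set G)) := by rw [sup_comm]; exact hle hp
  have h3 : p ∈ ((TY S Z j : Set G) * ((R ⊓ centralizer (Z j : Set G) : Subgroup G) : Set G)) := by
    rw [← Subgroup.coe_mul_of_left_le_normalizer_right _ _ hTn]
    exact h2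
  obtain ⟨t, ht, c, hc, rfl⟩ := Set.mem_mul.1 h3
  have hcD : c ∈ centralizer (ZJ : Set G) := by
    rw [← h.stab j]
    exact ⟨hRY hc.1, hc.2⟩
  have hcm : c * m * c⁻¹ = m := by
    rw [← mem_centralizer_iff.1 hcD m hm]
    group
  have e : t * c * m * (t * c)⁻¹ * m⁻¹ = t * (c * m * c⁻¹) * t⁻¹ * m⁻¹ := by group
  rw [e, hcm]
  exact hT t ht

/-- the situation of hU -/
theorem si {j : Fin k} {R : Subgroup G} (hR : IsMinPar (TY S Z j) R) (hRY : R ≤ YQ Z j)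
    (hZ : ¬ R ≤ normalizer (Z j : Set G)) : HUMulG.Si B Z j (TY S Z j) R :=
  ⟨hR, h.syl_of hR.le hRY, h.B_le_T j, fun l hl => hRY.trans (YQ_cent hl), hZ⟩

/-- **hU** -/
theorem hU {i j : Fin k} (hij : i ≠ j) {R : Subgroup G} (hR : IsMinPar (TY S Z j) R) (hRY : R ≤ YQ Z j)
    (hZ : ¬ R ≤ normalizer (Z j : Set G)) : ∀ r ∈ R, ∀ w ∈ W i, r * w * r⁻¹ * w⁻¹ ∈ Z i := by
  rcases h.par hR hRY with h1 | ⟨h1, -⟩
  · exact absurd h1 hZ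
  · exact (HUMulG.hU h.mul (le_trans (by norm_num) h.three) (h.si hR hRY hZ) h1 (Or.inl h.three)).1 i hij

/-- **(U1)** -/
theorem u1 {i j : Fin k} (hij : i ≠ j) {R : Subgroup G} (hR : IsMinPar (TY S Z j) R) (hRY : R ≤ YQ Z j)
    {m : G} (hm : m ∈ ZJ) (hT : ∀ t ∈ TY S Z j, t * m * t⁻¹ * m⁻¹ ∈ Zs Z j)
    (hmv : ∃ p ∈ R, p * m * p⁻¹ * m⁻¹ ∉ Zs Z j) :
    ∀ p ∈ R, ∀ w ∈ W i ⊔ Zs Z j, p * w * p⁻¹ * w⁻¹ ∈ Zs Z j := by
  intro p hp w hw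
  refine h.comm_sup hij (hRY hp) ?_ hw
  by_cases hZ : R ≤ normalizer (Z j : Set G)
  · exact h.comm_norm hij hR hRY (h.norm_of_mv hR hRY hZ hm hT hmv) p hp
  · exact h.hU hij hR hRY hZ p hp

/-- **(U2)** -/
theorem u2 {i j : Fin k} (hij : i ≠ j) {R : Subgroup G} (hR : IsMinPar (TY S Z j) R) (hRY : R ≤ YQ Z j)
    (hn : ¬ R ≤ normalizer (ZJ : Set G)) :
    (∀ p ∈ R, ∀ w ∈ W i ⊔ Zs Z j, p * w * p⁻¹ * w⁻¹ ∈ Zs Z j) ∧
      R ≤ normalizer ((W j ⊔ Zs Z j : Subgroup G) : Set G) ∧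
      ∀ v ∈ W j ⊔ Zs Z j, ∀ w ∈ W j ⊔ Zs Z j, v ∉ Zs Z j → w ∉ Zs Z j →
        ∃ p ∈ R, p * v * p⁻¹ * w⁻¹ ∈ Zs Z j := by
  have hZ : ¬ R ≤ normalizer (Z j : Set G) := fun hle => hn fun r hr => h.norm_ZJ' (hRY hr) (hle hr)
  rcases h.par hR hRY with h1 | ⟨h1, h2, -⟩
  · exact absurd h1 hZ
  refine ⟨fun p hp w hw => h.comm_sup hij (hRY hp) (h.hU hij hR hRY hZ p hp) hw, ?_, ?_⟩
  · intro r hr
    rw [mem_normalizer_iff_cj]
    have h3 : cj r (Zs Z j) = Zs Z j := by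
      refine mem_normalizer_iff_cj.1 (centralizer_le_normalizer _ (mem_centralizer_iff.2 fun z hz => ?_))
      exact (YQ_Zs (hRY hr) hz).symm
    have h4 : cj r (W j ⊔ Zs Z j) = cj r (W j) ⊔ cj r (Zs Z j) := Subgroup.map_sup _ _ _
    rw [h4, h3, mem_normalizer_iff_cj.1 (h1 hr)]
  · intro v hv w hw hvZ hwZ
    obtain ⟨v, hv', z, hz, rfl⟩ := h.mem_WZ hv
    obtain ⟨w, hw', z', hz', rfl⟩ := h.mem_WZ hw
    have hv1 : v ≠ 1 := by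
      rintro rfl
      exact hvZ (by rw [one_mul]; exact hz)
    have hw1 : w ≠ 1 := by
      rintro rfl
      exact hwZ (by rw [one_mul]; exact hz')
    obtain ⟨p, hp, e⟩ := h2 v hv' w hw' hv1 hw1
    refine ⟨p, hp, ?_⟩
    have h3 : z * p⁻¹ = p⁻¹ * z := (YQ_Zs (inv_mem (hRY hp)) hz).symm
    have h4 : w * (z * z'⁻¹) = (z * z'⁻¹) * w := h.W_comm_Zs hw' (mul_mem hz (inv_mem hz'))
    have e1 : p * (v * z) * p⁻¹ * (w * z')⁻¹ = z * z'⁻¹ := by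
      calc p * (v * z) * p⁻¹ * (w * z')⁻¹ = p * v * (z * p⁻¹) * z'⁻¹ * w⁻¹ := by group
        _ = (p * v * p⁻¹) * (z * z'⁻¹) * w⁻¹ := by rw [h3]; group
        _ = z * z'⁻¹ := by rw [e, h4]; group
    rw [e1]
    exact mul_mem hz (inv_mem hz')

theorem nX (j : Fin k) : YQ Z j ⊓ normalizer (TY S Z j : Set G) ≤ normalizer (ZJ : Set G) :=
  (h.norm_T_le j).trans h.bg.norm_ZJ

theorem nY (i j : Fin k) : YQ Z j ⊓ normalizer (TY S Z j : Set G) ≤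
    normalizer ((W i ⊔ Zs Z j : Subgroup G) : Set G) := by
  intro n hn
  rw [mem_normalizer_iff_cj]
  have h3 : cj n (Zs Z j) = Zs Z j := by
    refine mem_normalizer_iff_cj.1 (centralizer_le_normalizer _ (mem_centralizer_iff.2 fun z hz => ?_))
    exact (YQ_Zs hn.1 hz).symm
  have h4 : cj n (W i ⊔ Zs Z j) = cj n (W i) ⊔ cj n (Zs Z j) := Subgroup.map_sup _ _ _
  rw [h4, h3, (h.fixB (h.norm_T_le j hn) hn.1 i).1]

end FrG

end Cfsg.Agent.Omega.EK3.QG
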